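import Groth.Agent.L23.Approx.LimitFp

/-!
# Closed immersions into spaces of finite presentation
-/

universe u

open CategoryTheory CategoryTheory.Limits AlgebraicGeometry Opposite AlgSp TopologicalSpace

set_option autoImplicit false
set_option linter.style.haveILetI false
set_option linter.unusedSectionVars false
set_option backward.isDefEq.respectTransparency false
set_option backward.isDefEq.respectTransparency.types false

noncomputable section

namespace Groth.L23.Approx

variable {S : Scheme.{u}} [QuasiSeparatedSpace S]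

/-- A morphism locally of finite type of quasi-compact quasi-separated spaces is a closed immersion followed by one of
finite presentation, which can be taken separated if the morphism is. -/
theorem exists_closed_into_fp {X : Sp S} (hX : IsAlgSpace X) (hXqc : IsQuasiCompactSp X) (hXqs : IsQuasiSeparatedSp X)
    {Y : AlgSp.Space S} (hYqc : IsQuasiCompactSp Y.obj) (hYqs : IsQuasiSeparatedSp Y.obj) (f : X ⟶ Y.obj)
    (hf : LocP @LocallyOfFiniteType f) :
    ∃ (X' : Sp S) (i : X ⟶ X') (f' : X' ⟶ Y.obj), IsAlgSpace X' ∧ i ≫ f' = f ∧ RepWith @IsClosedImmersion i ∧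
      IsFinitePresentationMor f' ∧ (IsSeparatedMor f → IsSeparatedMor f') := by
  obtain ⟨I, i1, i2, i3, D, t, c, hc, e, hD, hDa, hDq, ht, -, hfac⟩ := exists_limit_fp hX hXqc hXqs hYqs f
  obtain ⟨l₁⟩ := IsCofiltered.nonempty (C := Iᵒᵖ)
  have hlft : LocP @LocallyOfFiniteType (e.inv ≫ c.π.app l₁) :=
    locP_of_comp etLocal_lft (fun φ ψ (h : LocallyOfFiniteType (φ ≫ ψ)) => locallyOfFiniteType_of_comp φ ψ) hX
      (hD l₁) Y.property (g := t.app l₁) (by rw [Category.assoc, hfac]; exact hf)
  obtain ⟨l₀, hl₀⟩ := Groth.L09.SpLimit.eventually_closedImmersion hD hDa hc hX (y := e.inv) (repWith_of_isIso _) hlft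
    (hDq l₁).1
  by_cases hs : IsSeparatedMor f
  · obtain ⟨l₂, hl₂⟩ := Groth.L09.SpLimit.eventually_separated hD hDa hc Y.property t (e.hom ≫ f)
      (fun i => by rw [← cancel_epi e.inv, hfac, Iso.inv_hom_id_assoc]) (fun i => (hDq i).1) (fun i => (hDq i).2) hYqs
      (separated_comp ((isSeparatedMor_iff (repWith_of_isIso (P := @IsOpenImmersion) e.hom).1).2
        (repWith_mono (fun φ (_ : IsOpenImmersion φ) => inferInstanceAs (IsSeparated φ)) (repWith_of_isIso e.hom))) hs)
    refine ⟨_, e.inv ≫ c.π.app (IsCofiltered.min l₀ l₂), t.app _, hD _, by rw [Category.assoc, hfac],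
      hl₀ _ (IsCofiltered.minToLeft _ _), ht _, fun _ => hl₂ _ (IsCofiltered.minToRight _ _)⟩
  · exact ⟨_, e.inv ≫ c.π.app l₀, t.app l₀, hD _, by rw [Category.assoc, hfac], hl₀ _ (𝟙 _), ht _,
      fun h => absurd h hs⟩

end Groth.L23.Approx
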