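import Groth.Agent.L23.SchImageHom
import Groth.Agent.L09.SpLimit.ClosedSystem
import Groth.Agent.L09.SpLimit.PbSys
import Groth.Agent.L09.SpLimit.TwoSystems
import Groth.Agent.L23.ChevGen.Union
import Mathlib.CategoryTheory.Limits.Connected

/-!
# Finitely presented closed subspaces of a limit come from a stage
-/

universe u

open CategoryTheory CategoryTheory.Limits AlgebraicGeometry Opposite AlgSp

set_option autoImplicit false
set_option linter.style.haveILetI false
set_option backward.isDefEq.respectTransparency false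
set_option backward.isDefEq.respectTransparency.types false

noncomputable section

namespace Groth.L23.Approx

variable {S : Scheme.{u}}

theorem mono_closed {A B : Sp S} {f : A ⟶ B} (h : RepWith @IsClosedImmersion f) : Mono f :=
  mono_of_repWith (fun _ _ φ (_ : IsClosedImmersion φ) => inferInstanceAs (Mono φ)) h

theorem affine_closed {A B : Sp S} {f : A ⟶ B} (h : RepWith @IsClosedImmersion f) : RepWith @IsAffineHom f :=
  repWith_mono (fun φ (_ : IsClosedImmersion φ) => inferInstanceAs (IsAffineHom φ)) h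

theorem lft_closed {A B : Sp S} {f : A ⟶ B} (h : RepWith @IsClosedImmersion f) : LocP @LocallyOfFiniteType f :=
  locP_of_repWith etLocal_lft (repWith_mono (fun φ (_ : IsClosedImmersion φ) => inferInstanceAs (LocallyOfFiniteType φ)) h)

variable [QuasiSeparatedSpace S] {I : Type u} [SmallCategory I] [IsCofiltered I] {D : I ⥤ Sp S} {c : Cone D}
  (hD : ∀ i, IsAlgSpace (D.obj i)) (hDa : ∀ (i j : I) (φ : i ⟶ j), IsAffineMor (D.map φ))
  (hqc : ∀ i, IsQuasiCompactSp (D.obj i)) (hqs : ∀ i, IsQuasiSeparatedSp (D.obj i))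
  (hc : IsLimit c) (hP : IsAlgSpace c.pt) (hPqc : IsQuasiCompactSp c.pt)

include hD hDa hqc hc hP hPqc in
/-- A finitely presented closed subspace of a limit is the preimage of a closed subspace of a stage. -/
theorem exists_closed_stage (i : I) {Z : Sp S} {z : Z ⟶ c.pt} (hZ : IsAlgSpace Z) (hz : RepWith @IsClosedImmersion z)
    (hzf : LocP @LocallyOfFinitePresentation z) :
    ∃ (j : I) (Z' : Sp S) (ε : Z' ⟶ D.obj j) (ξ : Z ⟶ Z'), IsAlgSpace Z' ∧ RepWith @IsClosedImmersion ε ∧
      IsPullback z ξ (c.π.app j) ε := by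
  choose M hM ε hε using fun j : Over i => exists_isSchImage hZ (hD j.left) (z ≫ c.π.app j.left)
  choose ξ hξ using fun j => (hε j).2.1
  haveI hεmono : ∀ j, Mono (ε j) := fun j => mono_closed (hε j).1
  have hmap : ∀ {a b : Over i} (φ : a ⟶ b), ∃ m : M a ⟶ M b, m ≫ ε b = ε a ≫ D.map φ.left ∧ ξ a ≫ m = ξ b :=
    fun {a b} φ => SchImgHom.exists_factor_schImage (hM a) ((hξ a).symm ▸ hε a) (hε b).1 (ε a ≫ D.map φ.left) (ξ b)
      (by rw [hξ, reassoc_of% (hξ a), c.w])
  choose m hm₁ hm₂ using @hmap
  let DX : Over i ⥤ Sp S :=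
    { obj := M
      map := fun φ => m φ
      map_id := fun a => by rw [← cancel_mono (ε a), hm₁]; simp
      map_comp := fun {a b d} φ ψ => by
        rw [← cancel_mono (ε d), hm₁, Category.assoc, hm₁, reassoc_of% (hm₁ φ), Over.comp_left, D.map_comp] }
  let εn : DX ⟶ Over.forget i ⋙ D :=
    { app := ε
      naturality := fun a b φ => hm₁ φ }
  let ξn : (Functor.const (Over i)).obj Z ⟶ DX :=
    { app := ξ
      naturality := fun a b φ => (Category.id_comp _).trans (hm₂ φ).symm }
  let π₂ : Over.forget i ⋙ D ⟶ (Functor.const (Over i)).obj (D.obj i) :=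
    { app := fun j => D.map j.hom
      naturality := fun a b φ => by
        show D.map φ.left ≫ D.map b.hom = D.map a.hom ≫ 𝟙 (D.obj i)
        exact ((D.map_comp _ _).symm.trans (congrArg D.map (Over.w φ))).trans (Category.comp_id _).symm }
  haveI hid : IsIso (𝟙 (D.obj i)) := IsIso.id _
  obtain ⟨hX⟩ := SchImgLim.nonempty_isLimit D hD hDa c hc hZ z i (hD i) (hqc i) (𝟙 _) (z ≫ c.π.app i)
    (Category.comp_id _)
    (fun P fst snd sq k hk₁ _ => by
      haveI : IsIso fst := sq.isIso_fst_of_isIso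
      rw [show k = z ≫ inv fst by rw [← hk₁, Category.assoc, IsIso.hom_inv_id, Category.comp_id]]
      exact repWith_comp hz (repWith_of_isIso _))
    (Over.forget i ⋙ D) (𝟙 _) π₂ (fun j => by
      haveI : IsIso ((𝟙 (Over.forget i ⋙ D) : _ ⟶ _).app j) := IsIso.id _
      exact IsPullback.of_horiz_isIso ⟨by simp only [π₂, NatTrans.id_app]; exact (Category.id_comp _).trans (Category.comp_id _).symm⟩) DX εn ξn
    (fun j => ⟨by simp [εn, ξn, hξ], by
      show ξ j ≫ ε j ≫ D.map j.hom = _
      rw [reassoc_of% (hξ j), c.w]⟩)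
    (fun j => by
      show IsSchImage (ξ j ≫ ε j) (ε j)
      rw [hξ]; exact hε j)
  -- the preimages
  have sqP := fun j : Over i => IsPullback.of_hasPullback (c.π.app j.left) (ε j)
  let PS : Over i ⥤ Sp S :=
    { obj := fun j => pullback (c.π.app j.left) (ε j)
      map := fun {a b} φ => pullback.map _ _ _ _ (𝟙 _) (m φ) (D.map φ.left) (by simp) (hm₁ φ).symm
      map_id := fun a => by
        refine pullback.hom_ext ?_ ?_
        · simp
        · rw [pullback.lift_snd, Category.id_comp]
          exact (congrArg (pullback.snd (c.π.app a.left) (ε a) ≫ ·) (DX.map_id a)).trans (Category.comp_id _)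
      map_comp := fun {a b d} φ ψ => by
        refine pullback.hom_ext ?_ ?_
        · simp
        · simp only [Category.assoc, pullback.lift_snd, pullback.lift_snd_assoc]
          exact congrArg (pullback.snd _ _ ≫ ·) (DX.map_comp φ ψ) }
  let pa : PS ⟶ (Functor.const (Over i)).obj c.pt :=
    { app := fun j => pullback.fst _ _
      naturality := fun a b φ => pullback.lift_fst _ _ _ }
  let pb : PS ⟶ DX :=
    { app := fun j => pullback.snd _ _
      naturality := fun a b φ => pullback.lift_snd _ _ _ }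
  let a : (Functor.const (Over i)).obj c.pt ⟶ Over.forget i ⋙ D :=
    { app := fun j => c.π.app j.left
      naturality := fun a b φ => c.π.naturality φ.left }
  let cP : Cone PS :=
    { pt := Z
      π :=
        { app := fun j => pullback.lift z (ξ j) (hξ j).symm
          naturality := fun a b φ => by
            refine pullback.hom_ext ?_ ?_
            · simp [PS]
            · simp [PS, hm₂] } }
  haveI : IsConnected (Over i) := IsCofiltered.isConnected _
  have hc' : IsLimit (c.whisker (Over.forget i)) :=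
    (Functor.Initial.isLimitWhiskerEquiv (Over.forget i) c).symm hc
  have hlim : IsLimit cP :=
    Groth.L09.SpLimit.isLimitOfIsPullback (pa := pa) (pb := pb) (a := a) (b := εn)
      (cA := constCone (Over i) c.pt) (cB := Cone.mk Z ξn) (cT := c.whisker (Over.forget i))
      (qa := z) (qb := 𝟙 Z) (la := 𝟙 c.pt) (lb := z) (isLimitConstCone (Over i) c.pt) hX hc' sqP
      (by
        haveI : IsIso (𝟙 Z) := IsIso.id _
        haveI : IsIso (𝟙 c.pt) := IsIso.id _
        exact IsPullback.of_vert_isIso ⟨(Category.comp_id _).trans (Category.id_comp _).symm⟩)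
      (fun j => by simp [cP, pa, constCone]) (fun j => by simp [cP, pb, ξn]) (fun j => by simp [a, constCone])
      (fun j => by simp [εn, ξn, hξ])
  have hfst : ∀ j : Over i, RepWith @IsClosedImmersion (pullback.fst (c.π.app j.left) (ε j)) := fun j =>
    repWith_of_isPullback (sqP j).flip (hε j).1
  have hPS : ∀ j, IsAlgSpace (PS.obj j) := fun j => isAlgSpace_of_representable_to hP (hfst j).1
  obtain ⟨j₀, hj₀⟩ := Groth.L09.SpLimit.eventually_isIso_π (D := PS) hPS
    (fun a b φ => by
      haveI := mono_closed (hfst b)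
      refine SchImgHom.repWith_cancel_mono (m := pullback.fst _ _) ?_
      rw [show PS.map φ ≫ pullback.fst _ _ = pullback.fst _ _ from (pullback.lift_fst _ _ _).trans (Category.comp_id _)]
      exact hfst a)
    hlim hP pa (Over.mk (𝟙 i))
    (Groth.L09.SpLimit.qcSp_of_affine hP hPqc (affine_closed (hfst _))) (lft_closed (hfst _))
    (by
      show LocP _ (pullback.lift z _ _ ≫ pullback.fst _ _)
      rw [pullback.lift_fst]
      exact hzf)
  haveI : IsIso (cP.π.app j₀) := hj₀ j₀ (𝟙 _)
  exact ⟨j₀.left, M j₀, ε j₀, ξ j₀, hM _, (hε j₀).1, (sqP j₀).of_iso (asIso (cP.π.app j₀)).symm (Iso.refl _)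
    (Iso.refl _) (Iso.refl _) (by simp [cP]) (by simp [cP]) (by simp) (by simp)⟩

include hD hDa hqc hqs hc hP hPqc in
/-- A finitely presented closed subspace of a limit is the preimage of a finitely presented closed subspace of a stage. -/
theorem exists_fp_closed_descend (i : I) {Z : Sp S} {z : Z ⟶ c.pt} (hZ : IsAlgSpace Z)
    (hz : RepWith @IsClosedImmersion z) (hzf : LocP @LocallyOfFinitePresentation z) :
    ∃ (j : I) (_ : j ⟶ i) (Z' : Sp S) (ε : Z' ⟶ D.obj j) (ξ : Z ⟶ Z'), IsAlgSpace Z' ∧
      RepWith @IsClosedImmersion ε ∧ IsFinitePresentationMor ε ∧ IsPullback z ξ (c.π.app j) ε := by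
  obtain ⟨j₁, M, ε, ξ, hM, hε, sq⟩ := exists_closed_stage hD hDa hqc hc hP hPqc i hZ hz hzf
  obtain ⟨K, _, _, _, E, t, cn, hcn, e, hE, hEc, ht, hfac⟩ :=
    ChevGen.exists_limit_fp (X := ⟨D.obj j₁, hD j₁⟩) (hqc j₁) (hqs j₁) hε
  have hg : ∀ k, cn.π.app k ≫ t.app k = e.hom ≫ ε := fun k => by
    rw [← cancel_epi e.inv, hfac, Iso.inv_hom_id_assoc]
  haveI : IsConnected Kᵒᵖ := IsCofiltered.isConnected _
  let h := c.π.app j₁
  have hlim := Groth.L09.SpLimit.isLimitPbCone t h hcn (e.hom ≫ ε) hg
  have hfst : ∀ k, RepWith @IsClosedImmersion (pullback.fst h (t.app k)) := fun k =>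
    repWith_of_isPullback (IsPullback.of_hasPullback _ _).flip (ht k).1
  let tP : Groth.L09.SpLimit.pbSys t h ⟶ (Functor.const Kᵒᵖ).obj c.pt :=
    { app := fun k => pullback.fst h (t.app k)
      naturality := fun a b φ => pullback.lift_fst _ _ _ }
  obtain ⟨k₁⟩ : Nonempty Kᵒᵖ := inferInstance
  have sqe : IsPullback z (ξ ≫ e.inv) h (e.hom ≫ ε) :=
    sq.of_iso (Iso.refl _) (Iso.refl _) e.symm (Iso.refl _) (by simp) (by simp) (by simp [h]) (by simp)
  obtain ⟨k₀, hk₀⟩ := Groth.L09.SpLimit.eventually_isIso_π (D := Groth.L09.SpLimit.pbSys t h)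
    (fun k => isAlgSpace_of_representable_to hP (hfst k).1)
    (fun a b φ => repWith_of_isPullback (Groth.L09.SpLimit.isPullback_pbSys t h φ).flip (hEc a b φ))
    hlim hP tP k₁ (Groth.L09.SpLimit.qcSp_of_affine hP hPqc (affine_closed (hfst _))) (lft_closed (hfst _))
    (by
      rw [show (Groth.L09.SpLimit.pbCone t h cn (e.hom ≫ ε) hg).π.app k₁ ≫ tP.app k₁ = pullback.fst _ _ from
        (pullback.lift_fst _ _ _).trans (Category.comp_id _), ← sqe.isoPullback_inv_fst]
      exact locP_comp etLocal_lfp (isAlgSpace_of_representable_to hP (repWith_of_isPullback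
          (IsPullback.of_hasPullback h (e.hom ≫ ε)).flip (repWith_comp (repWith_of_isIso e.hom) hε)).1) hZ hP
        (locP_of_repWith etLocal_lfp (repWith_mono
          (fun φ (_ : IsOpenImmersion φ) => inferInstanceAs (LocallyOfFinitePresentation φ)) (repWith_of_isIso _))) hzf)
  haveI := hk₀ k₀ (𝟙 _)
  haveI : IsIso ((Groth.L09.SpLimit.pbCone t h cn (e.hom ≫ ε) hg).π.app k₀) := hk₀ k₀ (𝟙 _)
  let θ := sqe.isoPullback ≪≫ asIso ((Groth.L09.SpLimit.pbCone t h cn (e.hom ≫ ε) hg).π.app k₀)
  have sqk : IsPullback z (ξ ≫ e.inv ≫ cn.π.app k₀) h (t.app k₀) :=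
    (IsPullback.of_hasPullback h (t.app k₀)).of_iso θ.symm (Iso.refl _) (Iso.refl _) (Iso.refl _)
      (by simp [θ, Groth.L09.SpLimit.pbCone])
      (by
        simp [θ, Groth.L09.SpLimit.pbCone]
        rw [Iso.eq_inv_comp, ← Category.assoc, sqe.isoPullback_hom_snd, Category.assoc])
      (by simp) (by simp)
  -- pass to a stage over the given one
  obtain ⟨j, φ, ψ, -⟩ := IsCofilteredOrEmpty.cone_objs i j₁
  have sq' := IsPullback.of_hasPullback (D.map ψ) (t.app k₀)
  have hε' : RepWith @IsClosedImmersion (pullback.fst (D.map ψ) (t.app k₀)) :=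
    repWith_of_isPullback sq'.flip (ht k₀).1
  refine ⟨j, φ, _, pullback.fst (D.map ψ) (t.app k₀), sq'.lift (z ≫ c.π.app j) (ξ ≫ e.inv ≫ cn.π.app k₀)
      (by rw [Category.assoc, c.w, sqk.w]),
    isAlgSpace_of_representable_to (hD j) hε'.1, hε', ⟨?_, isQuasiCompactMor_of_repWith
      (repWith_mono (fun φ (_ : IsClosedImmersion φ) => inferInstanceAs (QuasiCompact φ)) hε'),
      repWith_mono (fun φ (_ : IsClosedImmersion φ) => inferInstanceAs (QuasiCompact φ))
        ((isSeparatedMor_iff hε'.1).2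
          (repWith_mono (fun φ (_ : IsClosedImmersion φ) => inferInstanceAs (IsSeparated φ)) hε'))⟩, ?_⟩
  · exact locP_of_isPullback etLocal_lfp (hE k₀) (hD j₁) (hD j) sq'.flip (ht k₀).2.1
  · refine IsPullback.of_bot ?_ (sq'.lift_fst _ _ _).symm sq'
    rw [sq'.lift_snd, c.w]
    exact sqk

end Groth.L23.Approx
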