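import Groth.Agent.L23.AffineHull
import Groth.Agent.L23.NormQF
import Mathlib.AlgebraicGeometry.ZariskisMainTheorem
import Groth.Agent.L23.QAffineFp
import Groth.Agent.L09.SpLimit.OpenDescend
import Groth.Agent.L09.SpLimit.PbSys

/-!
# Quasi-affine morphisms as limits of morphisms of finite presentation
-/

universe u

open CategoryTheory CategoryTheory.Limits AlgebraicGeometry Opposite AlgSp

set_option autoImplicit false
set_option linter.style.haveILetI false
set_option backward.isDefEq.respectTransparency false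
set_option backward.isDefEq.respectTransparency.types false

noncomputable section

namespace Groth.L23.Approx

variable {S : Scheme.{u}}

/-- An affine morphism cancels on the right of an affine one. -/
theorem affine_of_comp {X Y Z : Sp S} {f : X ⟶ Y} {g : Y ⟶ Z} (h : RepWith @IsAffineHom (f ≫ g))
    (hg : RepWith @IsAffineHom g) : RepWith @IsAffineHom f :=
  repWith_of_comp_diagonal h (repWith_mono (fun φ (_ : IsClosedImmersion φ) => inferInstanceAs (IsAffineHom φ))
    ((isSeparatedMor_iff hg.1).2 (repWith_mono (fun φ (_ : IsAffineHom φ) => inferInstanceAs (IsSeparated φ)) hg)))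

/-- Quasi-affine followed by affine is quasi-affine. -/
theorem isQuasiAffineMor_comp_affine {X Y Z : Sp S} {f : X ⟶ Y} {g : Y ⟶ Z} (hf : IsQuasiAffineMor f)
    (hg : IsAffineMor g) : IsQuasiAffineMor (f ≫ g) := by
  intro T hT a
  obtain ⟨W, i, fst, sW, hW⟩ := hg hT a
  obtain ⟨V, j, fst', sV, hV⟩ := hf hW fst
  refine ⟨V, j ≫ i, fst', ?_, hV⟩
  rw [Functor.map_comp]
  exact sV.paste_vert sW

variable [QuasiSeparatedSpace S]

/-- A morphism from an affine scheme to a quasi-separated space is quasi-affine. -/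
theorem isQuasiAffineMor_of_affine_source {V : Over S} [IsAffine V.left] {B : Sp S} (hB : IsAlgSpace B)
    (hBqs : IsQuasiSeparatedSp B) (b : (yon S).obj V ⟶ B) : IsQuasiAffineMor b := by
  intro Z hZ g
  haveI := hZ
  obtain ⟨P, p₁, p₂, sP⟩ := exists_isPullback_of_representable (hB.representable_from_yon b) g
  refine ⟨P, p₂, (yon S).map p₁, sP, ?_⟩
  haveI : CompactSpace P.left := compactSpace_of_qs hBqs sP
  have h' := repWith_of_isPullback (isPullback_diag sP) (diag_properties hB)
  rw [show prod.lift ((yon S).map p₁) ((yon S).map p₂) =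
    (yon S).map (prod.lift p₁ p₂) ≫ prodComparison (yon S) V Z by
      ext <;> simp [← Functor.map_comp]] at h'
  have hd : diagProp (prod.lift p₁ p₂).left :=
    (repWith_yon_map_iff _ _).1 ((MorphismProperty.cancel_right_of_respectsIso (RepWith diagProp) _ _).1 h')
  obtain ⟨hd₁, (hd₂ : Mono (prod.lift p₁ p₂).left)⟩ := hd
  haveI := hd₁; haveI := hd₂
  let i := terminal.from S
  let m : P.left ⟶ pullback (V.hom ≫ i) (Z.hom ≫ i) :=
    (prod.lift p₁ p₂).left ≫ (Over.prodLeftIsoPullback V Z).hom ≫ pullback.mapDesc V.hom Z.hom i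
  haveI : IsImmersion (pullback.mapDesc V.hom Z.hom i) := inferInstance
  haveI : Mono m := inferInstance
  haveI : LocallyOfFiniteType m := inferInstance
  haveI : IsSeparated m := inferInstance
  haveI : LocallyQuasiFinite m := inferInstance
  haveI : QuasiCompact m := (quasiCompact_iff_compactSpace (f := m)).mpr inferInstance
  haveI : IsAffine m.normalization := isAffine_of_isAffineHom m.fromNormalization
  exact Scheme.IsQuasiAffine.of_isImmersion m.toNormalization

/-- A quasi-affine morphism to a quasi-compact quasi-separated space is a limit of morphisms of finite presentation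
with affine transition maps. -/
theorem exists_limit_quasiAffine {X : Sp S} {Y : AlgSp.Space S} (hX : IsAlgSpace X) {f : X ⟶ Y.obj}
    (hf : IsQuasiAffineMor f) (hYqc : IsQuasiCompactSp Y.obj) (hYqs : IsQuasiSeparatedSp Y.obj) :
    ∃ (J : Type u) (_ : SmallCategory J) (_ : IsCofiltered J) (D : J ⥤ Sp S)
      (t : D ⟶ (Functor.const J).obj Y.obj) (c : Cone D) (_ : IsLimit c) (e : c.pt ≅ X),
      (∀ i, IsAlgSpace (D.obj i)) ∧ (∀ (i j : J) (φ : i ⟶ j), IsAffineMor (D.map φ)) ∧
      (∀ i, IsQuasiCompactSp (D.obj i) ∧ IsQuasiSeparatedSp (D.obj i)) ∧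
      (∀ i, IsFinitePresentationMor (t.app i)) ∧ (∀ i, RepWith @IsAffineHom (c.π.app i)) ∧
      (∀ i, c.π.app i ≫ t.app i = e.hom ≫ f) := by
  have hrep := representable_of_isQuasiAffineMor hf
  obtain ⟨U, p, hU, hp, hps⟩ := Qs.exists_affine_atlas Y.property hYqc
  have hWqa := Hull.isQuasiAffine_pullback hf hU (hrep.isPullback p)
  haveI := hWqa
  have hXqc : IsQuasiCompactSp X := qcSp_of_surjective hX (hrep.fst p) (fun x => by
      obtain ⟨e, he⟩ := surjective_ofPt (repWith_of_isPullback (hrep.isPullback p).flip hps) x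
      exact ⟨_, (Points.ofPt_eq_map_ofScheme _ e).symm.trans he⟩)
    isQuasiCompactSp_of_compactSpace
  obtain ⟨A, k, q, hA, hq, hk, hkq⟩ := Hull.exists_hull hrep hf hX Y.property hYqc
  obtain ⟨I, _, _, _, D, t, c, hc, e, hD, hDa, ht, hfac⟩ := RelSpec.exists_limit_affine (X := A) hq hYqc hYqs
  have hDqc : ∀ i, IsQuasiCompactSp (D.obj i) := fun i =>
    Groth.L09.SpLimit.qcSp_of_affine Y.property hYqc (isAffineMor_iff.1 (ht i).1)
  have hDqs : ∀ i, IsQuasiSeparatedSp (D.obj i) := fun i =>
    Groth.L09.SpLimit.qsSp_of_affine hYqs (isAffineMor_iff.1 (ht i).1)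
  obtain ⟨i, Ui, ji, r, hji, hUiqc, sq⟩ := Groth.L09.SpLimit.exists_open_descend hD hDa hDqc hDqs hc (k ≫ e.inv)
    (repWith_comp hk (repWith_of_isIso _)) hXqc
  haveI : IsConnected (Over i) := IsCofiltered.isConnected _
  have hc' : IsLimit (c.whisker (Over.forget i)) :=
    (Functor.Initial.isLimitWhiskerEquiv (Over.forget i) c).symm hc
  let tD : Over.forget i ⋙ D ⟶ (Functor.const (Over i)).obj (D.obj i) :=
    { app := fun j => D.map j.hom
      naturality := fun a b φ => by
        show D.map φ.left ≫ D.map b.hom = D.map a.hom ≫ 𝟙 (D.obj i)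
        exact ((D.map_comp _ _).symm.trans (congrArg D.map (Over.w φ))).trans (Category.comp_id _).symm }
  have hg : ∀ j : Over i, (c.whisker (Over.forget i)).π.app j ≫ tD.app j = c.π.app i := fun j => c.w j.hom
  let E := Groth.L09.SpLimit.pbSys tD ji
  have sqE := fun j : Over i => IsPullback.of_hasPullback ji (tD.app j)
  have hEsnd : ∀ j, RepWith @IsOpenImmersion (pullback.snd ji (tD.app j)) := fun j =>
    repWith_of_isPullback (sqE j) hji
  have hEsp : ∀ j, IsAlgSpace (E.obj j) := fun j => isAlgSpace_of_representable_to (hD j.left) (hEsnd j).1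
  have hUi : IsAlgSpace Ui := isAlgSpace_of_representable_to (hD i) hji.1
  have hEa : ∀ a b φ, IsAffineMor (E.map φ : E.obj a ⟶ E.obj b) := fun a b φ => isAffineMor_iff.2
    (repWith_of_isPullback (Groth.L09.SpLimit.isPullback_pbSys tD ji φ).flip
      (isAffineMor_iff.1 (hDa _ _ φ.left)))
  have hfst : ∀ j, RepWith @IsAffineHom (pullback.fst ji (tD.app j)) := fun j =>
    repWith_of_isPullback (sqE j).flip (isAffineMor_iff.1 (hDa _ _ j.hom))
  have hEqc : ∀ j, IsQuasiCompactSp (E.obj j) := fun j =>
    Groth.L09.SpLimit.qcSp_of_affine hUi hUiqc (hfst j)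
  let tY : E ⟶ (Functor.const (Over i)).obj Y.obj :=
    { app := fun j => pullback.snd ji (tD.app j) ≫ t.app j.left
      naturality := fun a b φ => by
        rw [← Category.assoc, show E.map φ ≫ pullback.snd ji (tD.app b) =
          pullback.snd ji (tD.app a) ≫ D.map φ.left from pullback.lift_snd _ _ _, Category.assoc, t.naturality]
        simp }
  let cE := Groth.L09.SpLimit.pbCone tD ji (c.whisker (Over.forget i)) (c.π.app i) hg
  let eX : cE.pt ≅ X := sq.flip.isoPullback.symm
  have hct : ∀ j, c.π.app j ≫ t.app j = e.hom ≫ q := fun j => by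
    rw [← cancel_epi e.inv, hfac, Iso.inv_hom_id_assoc]
  have hfacE : ∀ j, cE.π.app j ≫ tY.app j = eX.hom ≫ f := fun j => by
    rw [← Category.assoc, show cE.π.app j ≫ pullback.snd ji (tD.app j) = pullback.snd ji (c.π.app i) ≫ c.π.app j.left
      from pullback.lift_snd _ _ _, Category.assoc]
    rw [hct, ← hkq, show eX.hom = sq.flip.isoPullback.inv from rfl,
      show pullback.snd ji (c.π.app i) = sq.flip.isoPullback.inv ≫ k ≫ e.inv from (sq.flip.isoPullback_inv_snd).symm,
      Category.assoc, Category.assoc, Iso.inv_hom_id_assoc]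
  refine ⟨Over i, inferInstance, inferInstance, E, tY, cE,
    Groth.L09.SpLimit.isLimitPbCone tD ji hc' (c.π.app i) hg, eX, hEsp, hEa, fun j => ⟨hEqc j, ?_⟩, fun j => ?_,
    fun j => ?_, hfacE⟩
  · exact Groth.L09.SpLimit.qsSp_of_qsMor (hDqs j.left)
      (QAffineFp.fp_open (hEsp j) (hD j.left) (hEqc j) (hDqs j.left) (hEsnd j)).2.2
  · exact QAffineFp.fp_comp (hEsp j) (hD j.left) Y.property
      (QAffineFp.fp_open (hEsp j) (hD j.left) (hEqc j) (hDqs j.left) (hEsnd j)) (ht j.left).2
  · refine affine_of_comp (g := pullback.fst ji (tD.app j)) ?_ (hfst j)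
    rw [show cE.π.app j ≫ pullback.fst ji (tD.app j) = pullback.fst ji (c.π.app i) from
      (pullback.lift_fst _ _ _).trans (Category.comp_id _)]
    refine repWith_of_isPullback (IsPullback.of_hasPullback ji (c.π.app i)).flip
      (affine_of_comp (g := t.app i) ?_ (isAffineMor_iff.1 (ht i).1))
    rw [hct]
    exact repWith_comp (repWith_of_isIso e.hom) hq

end Groth.L23.Approx
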