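import Groth.Agent.L23.Approx.ClosedDescend
import Groth.Agent.L23.Approx.QALimit
import Groth.Agent.L09.SpLimit.Derived
import Groth.Agent.L09.SpLimit.Props
import Groth.Agent.L23.SchemeFacts

/-!
# Separated etale spaces over a limit descend
-/

universe u

open CategoryTheory CategoryTheory.Limits AlgebraicGeometry Opposite AlgSp

set_option autoImplicit false
set_option linter.style.haveILetI false
set_option backward.isDefEq.respectTransparency false
set_option backward.isDefEq.respectTransparency.types false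

noncomputable section

namespace Groth.L23.Approx

variable {S : Scheme.{u}}

/-- Separated etale morphisms of finite presentation, quasi-compact, are quasi-affine. -/
theorem isQuasiAffineMor_of_etale {X Y : Sp S} (hX : IsAlgSpace X) (hY : IsAlgSpace Y) {f : X ⟶ Y}
    (het : LocP @Etale f) (hqc : IsQuasiCompactMor f) (hsep : IsSeparatedMor f) : IsQuasiAffineMor f :=
  Norm.isQuasiAffineMor_of_qf hX hY (locP_mono (fun φ (_ : Etale φ) =>
    ⟨inferInstanceAs (LocallyQuasiFinite φ), inferInstanceAs (LocallyOfFiniteType φ)⟩) het) hqc hsep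

variable [QuasiSeparatedSpace S]

set_option maxHeartbeats 800000 in
/-- A separated etale space, quasi-compact, over an affine space over a finitely presented one, comes from a stage. -/
theorem exists_etale_stage {U : Sp S} {U₀ : AlgSp.Space S} (hU : IsAlgSpace U) {q : U ⟶ U₀.obj}
    (hq : RepWith @IsAffineHom q) (hqc : IsQuasiCompactSp U₀.obj) (hqs : IsQuasiSeparatedSp U₀.obj) {W : Sp S}
    (hW : IsAlgSpace W) (hWqc : IsQuasiCompactSp W) {w : W ⟶ U} (het : LocP @Etale w) (hsep : IsSeparatedMor w) :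
    ∃ (U' W' : Sp S) (u : U ⟶ U') (r : U' ⟶ U₀.obj) (w' : W' ⟶ U') (ω : W ⟶ W'),
      IsAlgSpace U' ∧ IsAlgSpace W' ∧ RepWith @IsAffineHom u ∧ u ≫ r = q ∧ IsFinitePresentationMor r ∧
      IsQuasiCompactSp W' ∧ LocP @Etale w' ∧ IsSeparatedMor w' ∧ IsPullback ω w w' u := by
  have hUqc : IsQuasiCompactSp U := Groth.L09.SpLimit.qcSp_of_affine U₀.property hqc hq
  have hUqs : IsQuasiSeparatedSp U := Groth.L09.SpLimit.qsSp_of_affine hqs hq
  have hwqc : IsQuasiCompactMor w := qcMor_of_qc_source hW hU hWqc hUqs w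
  obtain ⟨I, _, _, _, D, τ, c, hc, e, hD, hDa, hτ, hfac⟩ := RelSpec.exists_limit_affine (X := U) hq hqc hqs
  have hqD : ∀ i, c.π.app i ≫ τ.app i = e.hom ≫ q := fun i => by
    rw [← cancel_epi e.inv, hfac, Iso.inv_hom_id_assoc]
  have hDqc : ∀ i, IsQuasiCompactSp (D.obj i) := fun i =>
    Groth.L09.SpLimit.qcSp_of_affine U₀.property hqc (isAffineMor_iff.1 (hτ i).1)
  have hDqs : ∀ i, IsQuasiSeparatedSp (D.obj i) := fun i =>
    Groth.L09.SpLimit.qsSp_of_affine hqs (isAffineMor_iff.1 (hτ i).1)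
  -- the source as a limit of spaces of finite presentation over `U₀`
  obtain ⟨J, _, _, Z, t, cZ, hcZ, eZ, hZ, hZa, hZq, hZf, -, hZfac⟩ :=
    exists_limit_quasiAffine hW (isQuasiAffineMor_comp_affine (isQuasiAffineMor_of_etale hW hU het hwqc hsep)
      (isAffineMor_iff.2 hq)) hqc hqs
  haveI : IsConnected J := IsCofiltered.isConnected _
  -- the graph
  let cP := Groth.L09.SpLimit.pbCone t q cZ (eZ.hom ≫ w ≫ q) hZfac
  have hcP : IsLimit cP := Groth.L09.SpLimit.isLimitPbCone t q hcZ (eZ.hom ≫ w ≫ q) hZfac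
  let P := Groth.L09.SpLimit.pbSys t q
  have hPsnd : ∀ l, RepWith @IsAffineHom (pullback.snd q (t.app l)) := fun l =>
    repWith_of_isPullback (IsPullback.of_hasPullback q (t.app l)) hq
  have hPsp : ∀ l, IsAlgSpace (P.obj l) := fun l => isAlgSpace_of_representable_to (hZ l) (hPsnd l).1
  have hPa : ∀ a b φ, IsAffineMor (P.map φ : P.obj a ⟶ P.obj b) := fun a b φ => isAffineMor_iff.2
    (repWith_of_isPullback (Groth.L09.SpLimit.isPullback_pbSys t q φ).flip (isAffineMor_iff.1 (hZa a b φ)))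
  let y : W ⟶ cP.pt := pullback.lift w eZ.inv (by rw [Iso.inv_hom_id_assoc])
  have hy : RepWith @IsClosedImmersion y := by
    refine repWith_of_comp_diagonal (q := pullback.snd q (eZ.hom ≫ w ≫ q)) ?_ ?_
    · rw [show y ≫ pullback.snd q (eZ.hom ≫ w ≫ q) = eZ.inv from pullback.lift_snd _ _ _]
      exact repWith_of_isIso _
    · refine (isSeparatedMor_iff (repWith_of_isPullback (IsPullback.of_hasPullback q (eZ.hom ≫ w ≫ q)) hq).1).2 ?_
      exact repWith_mono (fun φ (_ : IsAffineHom φ) => inferInstanceAs (IsSeparated φ))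
        (repWith_of_isPullback (IsPullback.of_hasPullback q (eZ.hom ≫ w ≫ q)) hq)
  obtain ⟨l₁⟩ := IsCofiltered.nonempty (C := J)
  have hyw : ∀ l, (y ≫ cP.π.app l) ≫ pullback.fst q (t.app l) = w := fun l => by
    rw [Category.assoc, show cP.π.app l ≫ pullback.fst q (t.app l) = pullback.fst q (eZ.hom ≫ w ≫ q) from
      (pullback.lift_fst _ _ _).trans (Category.comp_id _)]
    exact pullback.lift_fst _ _ _
  have hlft : ∀ l, LocP @LocallyOfFiniteType (y ≫ cP.π.app l) := fun l =>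
    locP_of_comp etLocal_lft (fun φ ψ (h : LocallyOfFiniteType (φ ≫ ψ)) => locallyOfFiniteType_of_comp φ ψ) hW
      (hPsp l) hU (g := pullback.fst q (t.app l))
      (by rw [hyw]; exact locP_mono (fun φ (_ : Etale φ) => inferInstanceAs (LocallyOfFiniteType φ)) het)
  obtain ⟨l₀, hl₀⟩ := Groth.L09.SpLimit.eventually_closedImmersion hPsp hPa hcP hW hy (hlft l₁)
    (Groth.L09.SpLimit.qcSp_of_affine (hZ l₁) (hZq l₁).1 (hPsnd l₁))
  have hy₀ : RepWith @IsClosedImmersion (y ≫ cP.π.app l₀) := hl₀ l₀ (𝟙 _)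
  -- the pullback of the stage as a limit
  haveI : IsConnected Iᵒᵖ := IsCofiltered.isConnected _
  let T := t.app l₀
  let cQ := Groth.L09.SpLimit.pbCone τ T c (e.hom ≫ q) hqD
  have hcQ : IsLimit cQ := Groth.L09.SpLimit.isLimitPbCone τ T hc (e.hom ≫ q) hqD
  let Q := Groth.L09.SpLimit.pbSys τ T
  have hQfst : ∀ j, RepWith @IsAffineHom (pullback.fst T (τ.app j)) := fun j =>
    repWith_of_isPullback (IsPullback.of_hasPullback T (τ.app j)).flip (isAffineMor_iff.1 (hτ j).1)
  have hQsp : ∀ j, IsAlgSpace (Q.obj j) := fun j => isAlgSpace_of_representable_to (hZ l₀) (hQfst j).1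
  have hQa : ∀ a b φ, IsAffineMor (Q.map φ : Q.obj a ⟶ Q.obj b) := fun a b φ => isAffineMor_iff.2
    (repWith_of_isPullback (Groth.L09.SpLimit.isPullback_pbSys τ T φ).flip (isAffineMor_iff.1 (hDa a b φ)))
  have hQtop : RepWith @IsAffineHom (pullback.fst T (e.hom ≫ q)) :=
    repWith_of_isPullback (IsPullback.of_hasPullback T (e.hom ≫ q)).flip (repWith_comp (repWith_of_isIso e.hom) hq)
  let σ : pullback q T ⟶ cQ.pt := pullback.lift (pullback.snd q T) (pullback.fst q T ≫ e.inv)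
    (by rw [Category.assoc, Iso.inv_hom_id_assoc, pullback.condition])
  haveI : IsIso σ := ⟨pullback.lift (pullback.snd T (e.hom ≫ q) ≫ e.hom) (pullback.fst T (e.hom ≫ q))
    (by rw [Category.assoc, pullback.condition]), by apply pullback.hom_ext <;> simp [σ, T],
    by apply pullback.hom_ext <;> simp [σ, T]⟩
  let z : W ⟶ cQ.pt := (y ≫ cP.π.app l₀) ≫ σ
  have hz : RepWith @IsClosedImmersion z := repWith_comp hy₀ (repWith_of_isIso σ)
  have hQpt : IsAlgSpace cQ.pt := isAlgSpace_of_representable_to (hZ l₀) hQtop.1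
  have hzw : z ≫ pullback.snd T (e.hom ≫ q) = w ≫ e.inv := by
    rw [Category.assoc, show σ ≫ pullback.snd T (e.hom ≫ q) = pullback.fst q T ≫ e.inv from pullback.lift_snd _ _ _,
      ← Category.assoc, hyw]
  have hC : IsAlgSpace c.pt := isAlgSpace_of_representable_to hU (repWith_of_isIso (P := @IsOpenImmersion) e.hom).1
  have hetE : LocP @Etale (w ≫ e.inv) :=
    locP_comp etLocal_etale hW hU hC het (locP_of_repWith etLocal_etale
      (repWith_mono (fun φ (_ : IsOpenImmersion φ) => inferInstanceAs (Etale φ)) (repWith_of_isIso e.inv)))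
  have hsepE : IsSeparatedMor (w ≫ e.inv) :=
    separated_comp hsep ((isSeparatedMor_iff (repWith_of_isIso (P := @IsOpenImmersion) e.inv).1).2
      (repWith_mono (fun φ (_ : IsOpenImmersion φ) => inferInstanceAs (IsSeparated φ)) (repWith_of_isIso e.inv)))
  have hzf : LocP @LocallyOfFinitePresentation z :=
    locP_of_comp_of_locP etLocal_lfp (Q := @LocallyOfFiniteType)
      (fun φ ψ (h₁ : LocallyOfFiniteType ψ) (h₂ : LocallyOfFinitePresentation (φ ≫ ψ)) =>
        lfp_of_comp_lft φ ψ h₂) hW hQpt hC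
      (g := pullback.snd T (e.hom ≫ q))
      (by rw [hzw]; exact locP_mono (fun φ (_ : Etale φ) => inferInstanceAs (LocallyOfFinitePresentation φ)) hetE)
      (locP_of_isPullback etLocal_lft (hZ l₀) U₀.property hC (IsPullback.of_hasPullback T (e.hom ≫ q))
        (locP_mono (fun φ (_ : LocallyOfFinitePresentation φ) => inferInstanceAs (LocallyOfFiniteType φ)) (hZf l₀).1))
  obtain ⟨j, -, W₁, ε, ξ, hW₁, hε, hεf, sqW⟩ := exists_fp_closed_descend hQsp hQa
    (fun j => Groth.L09.SpLimit.qcSp_of_affine (hZ l₀) (hZq l₀).1 (hQfst j))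
    (fun j => Groth.L09.SpLimit.qsSp_of_affine (hZq l₀).2 (hQfst j)) hcQ hQpt
    (Groth.L09.SpLimit.qcSp_of_affine (hZ l₀) (hZq l₀).1 hQtop) (Classical.arbitrary _) hW hz hzf
  -- the stage
  let w₁ : W₁ ⟶ D.obj j := ε ≫ pullback.snd T (τ.app j)
  have sq₁ : IsPullback ξ (w ≫ e.inv) w₁ (c.π.app j) := by
    have sqs : IsPullback (cQ.π.app j) (pullback.snd T (e.hom ≫ q)) (pullback.snd T (τ.app j)) (c.π.app j) := by
      refine IsPullback.of_right ?_ (pullback.lift_snd _ _ _) (IsPullback.of_hasPullback T (τ.app j))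
      rw [show cQ.π.app j ≫ pullback.fst T (τ.app j) = pullback.fst T (e.hom ≫ q) from
        (pullback.lift_fst _ _ _).trans (Category.comp_id _), hqD]
      exact IsPullback.of_hasPullback _ _
    rw [← hzw]
    exact sqW.flip.paste_vert sqs
  have hw₁f : LocP @LocallyOfFinitePresentation w₁ :=
    locP_comp etLocal_lfp hW₁ (hQsp j) (hD j) hεf.1
      (locP_of_isPullback etLocal_lfp (hZ l₀) U₀.property (hD j) (IsPullback.of_hasPullback T (τ.app j)) (hZf l₀).1)
  have hW₁qc : IsQuasiCompactSp W₁ := Groth.L09.SpLimit.qcSp_of_affine (hQsp j)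
    (Groth.L09.SpLimit.qcSp_of_affine (hZ l₀) (hZq l₀).1 (hQfst j)) (affine_closed hε)
  have hW₁qs : IsQuasiSeparatedSp W₁ := Groth.L09.SpLimit.qsSp_of_affine
    (Groth.L09.SpLimit.qsSp_of_affine (hZq l₀).2 (hQfst j)) (affine_closed hε)
  have H : Groth.L09.SpLimit.Setup D c w₁ (𝟙 (D.obj j)) (w ≫ e.inv) ξ (c.π.app j) (𝟙 c.pt) :=
    { isAlgSpace := hD
      isAffineMor := hDa
      isLimit := ⟨hc⟩
      spX := hW₁
      spY := hD j
      qcX := hW₁qc
      qsX := hW₁qs
      qcY := hDqc j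
      qsY := hDqs j
      sqY := IsPullback.of_vert_isIso ⟨by simp⟩
      sqX := sq₁ }
  obtain ⟨i, φ, hi⟩ := ((Groth.L09.SpLimit.stage_etale H hw₁f hetE).and
    (Groth.L09.SpLimit.stage_separated H hsepE)).exists
  have sq₂ := IsPullback.of_hasPullback w₁ (D.map φ)
  obtain ⟨he', hs'⟩ := hi _ _ (pullback.snd w₁ (D.map φ)) (D.map φ) (𝟙 _)
    (IsPullback.of_vert_isIso ⟨by simp⟩) (pullback.fst w₁ (D.map φ)) sq₂
  have hu : RepWith @IsAffineHom (e.inv ≫ c.π.app i) :=
    affine_of_comp (g := τ.app i) (by rw [Category.assoc, hfac]; exact hq) (isAffineMor_iff.1 (hτ i).1)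
  have hW'fst : RepWith @IsAffineHom (pullback.fst w₁ (D.map φ)) :=
    repWith_of_isPullback sq₂.flip (isAffineMor_iff.1 (hDa _ _ φ))
  have sq₃ : IsPullback (sq₂.lift ξ ((w ≫ e.inv) ≫ c.π.app i) (by rw [Category.assoc, c.w, sq₁.w])) (w ≫ e.inv)
      (pullback.snd w₁ (D.map φ)) (c.π.app i) := by
    refine IsPullback.of_right ?_ (sq₂.lift_snd _ _ _) sq₂
    rw [sq₂.lift_fst, c.w]
    exact sq₁
  refine ⟨D.obj i, _, e.inv ≫ c.π.app i, τ.app i, pullback.snd w₁ (D.map φ),
    sq₂.lift ξ ((w ≫ e.inv) ≫ c.π.app i) (by rw [Category.assoc, c.w, sq₁.w]), hD i,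
    isAlgSpace_of_representable_to hW₁ hW'fst.1, hu, by rw [Category.assoc, hfac], (hτ i).2,
    Groth.L09.SpLimit.qcSp_of_affine hW₁ hW₁qc hW'fst, he', hs', ?_⟩
  exact sq₃.of_iso (Iso.refl _) (Iso.refl _) e (Iso.refl _) (by simp) (by simp) (by simp) (by simp)

end Groth.L23.Approx
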