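import Mathlib.RingTheory.FinitePresentation
import Mathlib.RingTheory.Localization.Away.AdjoinRoot

/-!
# Extending a finitely presented algebra over an open to the whole
-/

universe u

set_option autoImplicit false
set_option linter.style.haveILetI false

open MvPolynomial

noncomputable section

namespace Groth.L23.Approx

variable {R : Type u} [CommRing R] {B C E : Type u} [CommRing B] [CommRing C] [CommRing E]
  [Algebra R B] [Algebra R C] [Algebra R E]

/-- An algebra given on the members of a cover, compatible with a given algebra, extends to a finitely presented one. -/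
theorem exists_extension (c : B →ₐ[R] E) (d : C →ₐ[R] E) {ι : Type u} [Finite ι] (g : ι → R)
    (hfp : ∀ i, Algebra.FinitePresentation R (Localization.Away (algebraMap R B (g i))))
    (hds : ∀ i (y : E), ∃ (n : ℕ) (z : C), d z = g i ^ n • y)
    (hdi : ∀ i (z : C), d z = 0 → ∃ n : ℕ, g i ^ n • z = 0) :
    ∃ (A : Type u) (_ : CommRing A) (_ : Algebra R A) (π₁ : A →ₐ[R] B) (π₂ : A →ₐ[R] C),
      Algebra.FinitePresentation R A ∧ c.comp π₁ = d.comp π₂ ∧
      ∀ i, (∀ x : B, ∃ (n : ℕ) (a : A), π₁ a = g i ^ n • x) ∧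
        ∀ a : A, π₁ a = 0 → ∃ n : ℕ, g i ^ n • a = 0 := by
  classical
  haveI := Fintype.ofFinite ι
  -- generators
  choose k F hF using fun i => Algebra.FiniteType.iff_quotient_mvPolynomial''.1
    (inferInstance : Algebra.FiniteType R (Localization.Away (algebraMap R B (g i))))
  have hx : ∀ i (j : Fin (k i)), ∃ (n : ℕ) (x : B) (z : C),
      algebraMap B (Localization.Away (algebraMap R B (g i))) x = g i ^ n • F i (X j) ∧ c x = d z := by
    intro i j
    obtain ⟨n, x, hx⟩ := IsLocalization.Away.surj (algebraMap R B (g i)) (F i (X j))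
    obtain ⟨m, z, hz⟩ := hds i (c x)
    refine ⟨n + m, g i ^ m • x, z, ?_, by rw [map_smul, hz]⟩
    rw [Algebra.smul_def, map_mul, ← hx, map_pow, ← IsScalarTower.algebraMap_apply, Algebra.smul_def, map_pow,
      ← IsScalarTower.algebraMap_apply R B, map_pow]
    ring
  choose n x z hxF hxz using hx
  let σ := Σ i, Fin (k i)
  haveI : Finite σ := inferInstance
  let f₁ : MvPolynomial σ R →ₐ[R] B := aeval fun s => x s.1 s.2
  let f₂ : MvPolynomial σ R →ₐ[R] C := aeval fun s => z s.1 s.2
  have hf : c.comp f₁ = d.comp f₂ := MvPolynomial.algHom_ext fun s => by simp [f₁, f₂, hxz]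
  -- the maps on localisations
  have hu : ∀ i, IsUnit (algebraMap R (Localization.Away (algebraMap R B (g i))) (g i)) := fun i => by
    rw [IsScalarTower.algebraMap_apply R B (Localization.Away (algebraMap R B (g i))) (g i)]
    exact IsLocalization.Away.algebraMap_isUnit (S := Localization.Away (algebraMap R B (g i))) (algebraMap R B (g i))
  let G : ∀ i, MvPolynomial σ R →ₐ[R] Localization.Away (algebraMap R B (g i)) := fun i =>
    (IsScalarTower.toAlgHom R B _).comp f₁
  let φ : ∀ i, Localization.Away (algebraMap R (MvPolynomial σ R) (g i)) →ₐ[R]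
      Localization.Away (algebraMap R B (g i)) := fun i =>
    IsLocalization.liftAlgHom (M := Submonoid.powers (algebraMap R (MvPolynomial σ R) (g i))) (f := G i) (by
      rintro ⟨y, m, rfl⟩
      show IsUnit (G i (_ ^ m))
      rw [map_pow, AlgHom.commutes]
      exact (hu i).pow m)
  have hφ : ∀ i p, φ i (algebraMap _ _ p) = G i p := fun i p => IsLocalization.lift_eq _ p
  have hφs : ∀ i, Function.Surjective (φ i) := by
    intro i
    rw [← AlgHom.range_eq_top, ← top_le_iff, ← (AlgHom.range_eq_top (F i)).2 (hF i)]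
    rw [← Algebra.map_top, ← MvPolynomial.adjoin_range_X, AlgHom.map_adjoin, Algebra.adjoin_le_iff]
    rintro _ ⟨_, ⟨j, rfl⟩, rfl⟩
    refine ⟨IsLocalization.mk' (Localization.Away (algebraMap R (MvPolynomial σ R) (g i))) (X ⟨i, j⟩ : MvPolynomial σ R)
      (⟨_, n i j, rfl⟩ : Submonoid.powers (algebraMap R (MvPolynomial σ R) (g i))), ?_⟩
    refine ((hu i).pow (n i j)).mul_left_cancel ?_
    have e := congrArg (φ i) (IsLocalization.mk'_spec' (Localization.Away (algebraMap R (MvPolynomial σ R) (g i)))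
      (X ⟨i, j⟩ : MvPolynomial σ R) (⟨_, n i j, rfl⟩ : Submonoid.powers (algebraMap R (MvPolynomial σ R) (g i))))
    rw [map_mul, hφ, hφ] at e
    change G i (algebraMap R (MvPolynomial σ R) (g i) ^ n i j) * _ = _ at e
    rw [map_pow, AlgHom.commutes] at e
    rw [← map_pow, ← Algebra.smul_def (g i ^ n i j) (F i (X j)), ← hxF]
    rw [← map_pow] at e
    refine e.trans ?_
    show algebraMap B _ (f₁ (X ⟨i, j⟩)) = _
    simp [f₁]
  haveI : ∀ i, Algebra.FinitePresentation R (Localization.Away (algebraMap R (MvPolynomial σ R) (g i))) := fun i =>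
    haveI := IsLocalization.Away.finitePresentation (R := MvPolynomial σ R) (algebraMap R (MvPolynomial σ R) (g i))
      (S := Localization.Away (algebraMap R (MvPolynomial σ R) (g i)))
    Algebra.FinitePresentation.trans R (MvPolynomial σ R) _
  choose T hT using fun i => Algebra.FinitePresentation.ker_fG_of_surjective (φ i) (hφs i)
  have hnum : ∀ i (t : T i), ∃ h : MvPolynomial σ R, f₁ h = 0 ∧ f₂ h = 0 ∧
      ∃ y : Localization.Away (algebraMap R (MvPolynomial σ R) (g i)),
        (t : Localization.Away (algebraMap R (MvPolynomial σ R) (g i))) = y * algebraMap _ _ h := by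
    intro i t
    obtain ⟨m, h, hh⟩ := IsLocalization.Away.surj (algebraMap R (MvPolynomial σ R) (g i))
      (t : Localization.Away (algebraMap R (MvPolynomial σ R) (g i)))
    have h0 : algebraMap B (Localization.Away (algebraMap R B (g i))) (f₁ h) = 0 := by
      have h1 : φ i t = 0 := RingHom.mem_ker.1 ((hT i).le (Ideal.subset_span t.2))
      show G i h = 0
      rw [← hφ, ← hh, map_mul, h1, zero_mul]
    obtain ⟨⟨_, N, rfl⟩, hN⟩ := (IsLocalization.map_eq_zero_iff (Submonoid.powers (algebraMap R B (g i))) _ _).1 h0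
    change algebraMap R B (g i) ^ N * f₁ h = 0 at hN
    obtain ⟨M, hM⟩ := hdi i (g i ^ N • f₂ h) (by
      rw [map_smul, show d (f₂ h) = c (f₁ h) from (DFunLike.congr_fun hf h).symm, ← map_smul, Algebra.smul_def,
        map_pow, hN, map_zero])
    obtain ⟨w, hw⟩ := (IsLocalization.Away.algebraMap_isUnit (algebraMap R (MvPolynomial σ R) (g i))
      (S := Localization.Away (algebraMap R (MvPolynomial σ R) (g i)))).pow (m + M + N)
    refine ⟨g i ^ (M + N) • h, ?_, by rw [map_smul, pow_add, mul_smul]; exact hM, ↑w⁻¹, ?_⟩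
    · rw [map_smul, pow_add, mul_smul, Algebra.smul_def (g i ^ N), map_pow, hN, smul_zero]
    · rw [Algebra.smul_def, map_mul, ← hh, map_pow, map_pow, Units.eq_inv_mul_iff_mul_eq, hw]; ring
  choose h hh₁ hh₂ y hy using hnum
  let I : Ideal (MvPolynomial σ R) := Ideal.span (Set.range fun s : Σ i, T i => h s.1 s.2)
  have hI : I.FG := Submodule.fg_span (Set.finite_range _)
  have hk₁ : ∀ p ∈ I, f₁ p = 0 := fun p hp =>
    RingHom.mem_ker.1 ((Ideal.span_le (I := RingHom.ker f₁)).2 (by rintro _ ⟨s, rfl⟩; exact hh₁ s.1 s.2) hp)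
  have hk₂ : ∀ p ∈ I, f₂ p = 0 := fun p hp =>
    RingHom.mem_ker.1 ((Ideal.span_le (I := RingHom.ker f₂)).2 (by rintro _ ⟨s, rfl⟩; exact hh₂ s.1 s.2) hp)
  haveI : Algebra.FinitePresentation R (MvPolynomial σ R) := inferInstance
  refine ⟨MvPolynomial σ R ⧸ I, inferInstance, inferInstance, Ideal.Quotient.liftₐ I f₁ hk₁,
    Ideal.Quotient.liftₐ I f₂ hk₂, Algebra.FinitePresentation.quotient hI,
    Ideal.Quotient.algHom_ext R (by ext s; exact DFunLike.congr_fun hf (X s)), fun i => ⟨fun b => ?_, fun a ha => ?_⟩⟩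
  · obtain ⟨q, hq⟩ := hφs i (algebraMap B _ b)
    obtain ⟨m, p, hp⟩ := IsLocalization.Away.surj (algebraMap R (MvPolynomial σ R) (g i)) q
    have e : algebraMap B (Localization.Away (algebraMap R B (g i))) (f₁ p) =
        algebraMap B _ (b * algebraMap R B (g i) ^ m) := by
      show G i p = _
      rw [← hφ, ← hp, map_mul, hq, map_pow, map_mul, map_pow, hφ, AlgHom.commutes,
        IsScalarTower.algebraMap_apply R B (Localization.Away (algebraMap R B (g i))) (g i)]
    obtain ⟨⟨_, N, rfl⟩, hN⟩ := (IsLocalization.eq_iff_exists (Submonoid.powers (algebraMap R B (g i))) _).1 e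
    refine ⟨N + m, Ideal.Quotient.mk I (g i ^ N • p), ?_⟩
    rw [Ideal.Quotient.liftₐ_apply, Ideal.Quotient.lift_mk]
    show f₁ (g i ^ N • p) = _
    rw [map_smul, Algebra.smul_def, Algebra.smul_def, map_pow, map_pow, pow_add]
    change algebraMap R B (g i) ^ N * _ = algebraMap R B (g i) ^ N * _ at hN
    rw [hN]; ring
  · obtain ⟨p, rfl⟩ := Ideal.Quotient.mk_surjective a
    change f₁ p = 0 at ha
    let L := Localization.Away (algebraMap R (MvPolynomial σ R ⧸ I) (g i))
    let ψ : Localization.Away (algebraMap R (MvPolynomial σ R) (g i)) →+* L :=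
      IsLocalization.Away.lift (algebraMap R (MvPolynomial σ R) (g i))
        (g := (algebraMap (MvPolynomial σ R ⧸ I) L).comp (Ideal.Quotient.mk I))
        (IsLocalization.Away.algebraMap_isUnit (algebraMap R (MvPolynomial σ R ⧸ I) (g i)))
    have hψ : ∀ p, ψ (algebraMap _ _ p) = algebraMap (MvPolynomial σ R ⧸ I) L (Ideal.Quotient.mk I p) :=
      fun p => IsLocalization.Away.lift_eq _ _ p
    have hkill : ∀ q ∈ RingHom.ker (φ i), ψ q = 0 := fun q hq => by
      replace hq : q ∈ Ideal.span (T i : Set _) := (hT i).ge hq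
      refine RingHom.mem_ker.1 ((Ideal.span_le (I := RingHom.ker ψ)).2 (fun t ht => ?_) hq)
      rw [SetLike.mem_coe, RingHom.mem_ker, show t = _ from hy i ⟨t, ht⟩, map_mul, hψ,
        Ideal.Quotient.eq_zero_iff_mem.2 (show h i ⟨t, ht⟩ ∈ I from Ideal.subset_span ⟨⟨i, t, ht⟩, rfl⟩), map_zero,
        mul_zero]
    have h0 : algebraMap (MvPolynomial σ R ⧸ I) L (Ideal.Quotient.mk I p) = 0 := by
      rw [← hψ]
      exact hkill _ (by rw [RingHom.mem_ker, hφ]; show algebraMap B _ (f₁ p) = 0; rw [ha, map_zero])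
    obtain ⟨⟨_, N, rfl⟩, hN⟩ := (IsLocalization.map_eq_zero_iff
      (Submonoid.powers (algebraMap R (MvPolynomial σ R ⧸ I) (g i))) _ _).1 h0
    exact ⟨N, by rw [Algebra.smul_def, map_pow]; exact hN⟩

end Groth.L23.Approx
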