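import Groth.Agent.L23.Approx.ExtendRing
import Groth.Agent.L23.LqfMain
import Mathlib.AlgebraicGeometry.Morphisms.FinitePresentation
import Mathlib.AlgebraicGeometry.Morphisms.Preimmersion

/-!
# Extending schemes affine over an open of an affine scheme
-/

universe u

open CategoryTheory CategoryTheory.Limits AlgebraicGeometry

set_option autoImplicit false
set_option linter.style.haveILetI false
set_option backward.isDefEq.respectTransparency false
set_option backward.isDefEq.respectTransparency.types false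

noncomputable section

namespace Groth.L23.Approx

theorem topIso_comp {X : Scheme.{u}} (U : X.Opens) :
    U.ι.appTop ≫ U.topIso.hom = X.presheaf.map (homOfLE (le_top : U ≤ ⊤)).op := by
  rw [Scheme.Opens.ι_appTop, Scheme.Opens.topIso, Functor.mapIso_hom, ← Functor.map_comp]
  rfl

/-- A scheme affine and of finite presentation over an open of an affine scheme, with a given affine scheme mapping
to it over that open, extends to an affine scheme of finite presentation. -/
theorem exists_extension_scheme {R : CommRingCat.{u}} {V W W' : Scheme.{u}} [IsAffine V] [CompactSpace W']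
    [QuasiSeparatedSpace W'] (φ : V ⟶ Spec R) (jW : W ⟶ V) [IsOpenImmersion jW] [CompactSpace W]
    (p : W' ⟶ Spec R) [LocallyOfFinitePresentation p] (ω : W ⟶ W') (hω : ω ≫ p = jW ≫ φ)
    (O : (Spec R).Opens) (hO : IsCompact (O : Set (Spec R))) (hp : Set.range p ⊆ O)
    (hjW : Set.range jW = φ ⁻¹' O) (haff : ∀ g : R, PrimeSpectrum.basicOpen g ≤ O →
      IsAffineOpen (p ⁻¹ᵁ PrimeSpectrum.basicOpen g)) :
    ∃ (A : CommRingCat.{u}) (q : Spec A ⟶ Spec R) (v : V ⟶ Spec A) (j : W' ⟶ Spec A),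
      LocallyOfFinitePresentation q ∧ v ≫ q = φ ∧ j ≫ q = p ∧ IsOpenImmersion j ∧ ω ≫ j = jW ≫ v ∧
      Set.range j = q ⁻¹' O := by
  classical
  haveI : IsSeparated (terminal.from W) := by
    rw [← terminal.comp_from jW]; infer_instance
  haveI : W.IsSeparated := ⟨inferInstance⟩
  -- the cover
  have hcov : ∀ x ∈ (O : Set (Spec R)), ∃ g : R, x ∈ PrimeSpectrum.basicOpen g ∧ PrimeSpectrum.basicOpen g ≤ O := by
    intro x hx
    obtain ⟨_, ⟨g, rfl⟩, hxg, hgO⟩ :=
      TopologicalSpace.Opens.isBasis_iff_nbhd.1 PrimeSpectrum.isBasis_basic_opens (U := O) hx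
    exact ⟨g, hxg, hgO⟩
  choose gx hgx hgle using hcov
  obtain ⟨t, ht⟩ := hO.elim_finite_subcover (fun x : ↥(O : Set (Spec R)) => SetLike.coe (PrimeSpectrum.basicOpen (gx x.1 x.2)))
    (fun x => (PrimeSpectrum.basicOpen _).2) fun x hx => Set.mem_iUnion.2 ⟨⟨x, hx⟩, hgx x hx⟩
  let g : ↥t → R := fun x => gx x.1.1 x.1.2
  have hg : ∀ i, PrimeSpectrum.basicOpen (g i) ≤ O := fun i => hgle _ _
  have hgcov : ∀ y ∈ (O : Set (Spec R)), ∃ i, y ∈ PrimeSpectrum.basicOpen (g i) := fun y hy => by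
    obtain ⟨x, hx, hy'⟩ := Set.mem_iUnion₂.1 (ht hy)
    exact ⟨⟨x, hx⟩, hy'⟩
  -- the algebras
  let aB : R ⟶ Γ(W', ⊤) := (Scheme.ΓSpecIso R).inv ≫ p.appTop
  let aC : R ⟶ Γ(V, ⊤) := (Scheme.ΓSpecIso R).inv ≫ φ.appTop
  let aE : R ⟶ Γ(W, ⊤) := (Scheme.ΓSpecIso R).inv ≫ (jW ≫ φ).appTop
  letI := aB.hom.toAlgebra
  letI := aC.hom.toAlgebra
  letI := aE.hom.toAlgebra
  let c : Γ(W', ⊤) →ₐ[R] Γ(W, ⊤) :=
    { ω.appTop.hom with
      commutes' := fun r => by
        show (aB ≫ ω.appTop).hom r = aE.hom r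
        rw [Category.assoc, ← Scheme.Hom.comp_appTop, hω] }
  let d : Γ(V, ⊤) →ₐ[R] Γ(W, ⊤) :=
    { jW.appTop.hom with
      commutes' := fun r => by
        show (aC ≫ jW.appTop).hom r = aE.hom r
        rw [Category.assoc, ← Scheme.Hom.comp_appTop] }
  have hD : ∀ r : R, (PrimeSpectrum.basicOpen r : (Spec R).Opens) = (Spec R).basicOpen ((Scheme.ΓSpecIso R).inv r) :=
    fun r => (basicOpen_eq_of_affine r).symm
  have hBo : ∀ r : R, p ⁻¹ᵁ PrimeSpectrum.basicOpen r = W'.basicOpen (aB.hom r) := fun r => by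
    rw [hD, Scheme.preimage_basicOpen_top]; rfl
  have hCo : ∀ r : R, φ ⁻¹ᵁ PrimeSpectrum.basicOpen r = V.basicOpen (aC.hom r) := fun r => by
    rw [hD, Scheme.preimage_basicOpen_top]; rfl
  have hloc : ∀ (X : Scheme.{u}) [CompactSpace X] [QuasiSeparatedSpace X] (b : Γ(X, ⊤)),
      letI := (X.presheaf.map (homOfLE (le_top : X.basicOpen b ≤ ⊤)).op).hom.toAlgebra
      IsLocalization.Away b Γ(X, X.basicOpen b) := fun X _ _ b =>
    isLocalization_basicOpen_of_qcqs isCompact_univ isQuasiSeparated_univ b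
  have hfp : ∀ i, Algebra.FinitePresentation R (Localization.Away (algebraMap R Γ(W', ⊤) (g i))) := by
    intro i
    let b := aB.hom (g i)
    let res := W'.presheaf.map (homOfLE (le_top : W'.basicOpen b ≤ ⊤)).op
    letI := res.hom.toAlgebra
    letI : Algebra R Γ(W', W'.basicOpen b) := (aB ≫ res).hom.toAlgebra
    haveI : IsScalarTower R Γ(W', ⊤) Γ(W', W'.basicOpen b) := IsScalarTower.of_algebraMap_eq fun _ => rfl
    haveI := hloc W' b
    have hU : IsAffineOpen (W'.basicOpen b) := hBo (g i) ▸ haff _ (hg i)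
    have h₁ := HasRingHomProperty.appLE @LocallyOfFinitePresentation p inferInstance
      ⟨⊤, isAffineOpen_top (Spec R)⟩ ⟨W'.basicOpen b, hU⟩ le_top
    have h₂ : (aB ≫ res).hom.FinitePresentation := by
      have e : aB ≫ res = (Scheme.ΓSpecIso R).inv ≫ p.appLE ⊤ (W'.basicOpen b) le_top := Category.assoc _ _ _
      rw [e, CommRingCat.hom_comp]
      exact h₁.comp (RingHom.FinitePresentation.of_bijective
        (ConcreteCategory.bijective_of_isIso (Scheme.ΓSpecIso R).inv))
    haveI : Algebra.FinitePresentation R Γ(W', W'.basicOpen b) := h₂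
    exact Algebra.FinitePresentation.equiv ((IsLocalization.algEquiv (Submonoid.powers b) Γ(W', W'.basicOpen b)
      (Localization.Away b)).restrictScalars R)
  have hW : ∀ i, V.basicOpen (aC.hom (g i)) ≤ jW.opensRange := fun i y hy => by
    rw [← hCo] at hy
    show y ∈ Set.range jW
    rw [hjW]
    exact hg i hy
  have hpre : ∀ i, jW ⁻¹ᵁ V.basicOpen (aC.hom (g i)) = W.basicOpen (aE.hom (g i)) := fun i => by
    rw [Scheme.preimage_basicOpen_top, ← show d (aC.hom (g i)) = aE.hom (g i) from d.commutes (g i)]; rfl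
  have hnat : ∀ i (z : Γ(V, ⊤)),
      (jW.app (V.basicOpen (aC.hom (g i)))).hom ((V.presheaf.map (homOfLE le_top).op).hom z) =
        (W.presheaf.map (homOfLE le_top).op).hom (d z) := fun i z =>
    congr($(jW.naturality (homOfLE (le_top : V.basicOpen (aC.hom (g i)) ≤ ⊤)).op).hom z)
  have hdi : ∀ i (z : Γ(V, ⊤)), d z = 0 → ∃ n : ℕ, g i ^ n • z = 0 := by
    intro i z hz
    let b := aC.hom (g i)
    letI := (V.presheaf.map (homOfLE (le_top : V.basicOpen b ≤ ⊤)).op).hom.toAlgebra
    haveI := hloc V b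
    haveI := jW.isIso_app _ (hW i)
    have h0 : algebraMap Γ(V, ⊤) Γ(V, V.basicOpen b) z = 0 :=
      (ConcreteCategory.bijective_of_isIso (jW.app (V.basicOpen b))).1
        ((hnat i z).trans (by rw [hz, map_zero, map_zero]))
    obtain ⟨⟨_, n, rfl⟩, hn⟩ := (IsLocalization.map_eq_zero_iff (Submonoid.powers b) _ _).1 h0
    exact ⟨n, by rw [Algebra.smul_def, map_pow]; exact hn⟩
  have hds : ∀ i (y : Γ(W, ⊤)), ∃ (n : ℕ) (z : Γ(V, ⊤)), d z = g i ^ n • y := by
    intro i y
    let b := aC.hom (g i)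
    letI := (V.presheaf.map (homOfLE (le_top : V.basicOpen b ≤ ⊤)).op).hom.toAlgebra
    haveI := hloc V b
    haveI := jW.isIso_app _ (hW i)
    have hle : jW ⁻¹ᵁ V.basicOpen b ≤ ⊤ := le_top
    obtain ⟨w, hw⟩ := (ConcreteCategory.bijective_of_isIso (jW.app (V.basicOpen b))).2
      ((W.presheaf.map (homOfLE hle).op).hom y)
    obtain ⟨n, z, hz⟩ := IsLocalization.Away.surj b w
    have h1 : (W.presheaf.map (homOfLE hle).op).hom (d z) =
        (W.presheaf.map (homOfLE hle).op).hom (aE.hom (g i) ^ n * y) := by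
      rw [map_mul, ← hw, ← hnat i z, ← show (jW.app (V.basicOpen b)).hom
        ((V.presheaf.map (homOfLE le_top).op).hom (b ^ n)) = _ from
          (hnat i (b ^ n)).trans (congrArg _ ((map_pow d b n).trans (by rw [show d b = aE.hom (g i) from d.commutes _])))]
      rw [← map_mul]
      refine congrArg _ ?_
      show algebraMap Γ(V, ⊤) Γ(V, V.basicOpen b) z = algebraMap _ _ (b ^ n) * w
      rw [← hz, map_pow, mul_comm]
    have h2 : (W.presheaf.map (homOfLE (le_top : W.basicOpen (aE.hom (g i)) ≤ ⊤)).op).hom (d z) =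
        (W.presheaf.map (homOfLE (le_top : W.basicOpen (aE.hom (g i)) ≤ ⊤)).op).hom (aE.hom (g i) ^ n * y) := by
      have := congrArg (W.presheaf.map (homOfLE (hpre i).ge).op).hom h1
      rw [← RingHom.comp_apply, ← CommRingCat.hom_comp, ← Functor.map_comp,
        ← RingHom.comp_apply, ← CommRingCat.hom_comp, ← Functor.map_comp] at this
      exact this
    letI := (W.presheaf.map (homOfLE (le_top : W.basicOpen (aE.hom (g i)) ≤ ⊤)).op).hom.toAlgebra
    haveI := hloc W (aE.hom (g i))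
    obtain ⟨⟨_, m, rfl⟩, hm⟩ := (IsLocalization.eq_iff_exists (Submonoid.powers (aE.hom (g i)))
      Γ(W, W.basicOpen (aE.hom (g i)))).1 h2
    refine ⟨m + n, g i ^ m • z, ?_⟩
    rw [map_smul, Algebra.smul_def, Algebra.smul_def, map_pow, map_pow, pow_add, mul_assoc]
    exact hm
  obtain ⟨A, _, _, π₁, π₂, hA, hπ, hpro⟩ := exists_extension c d g hfp hds hdi
  let qA : R ⟶ CommRingCat.of A := CommRingCat.ofHom (algebraMap R A)
  let q : Spec (CommRingCat.of A) ⟶ Spec R := Spec.map qA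
  let v : V ⟶ Spec (CommRingCat.of A) := V.toSpecΓ ≫ Spec.map (CommRingCat.ofHom π₂.toRingHom)
  let j : W' ⟶ Spec (CommRingCat.of A) := W'.toSpecΓ ≫ Spec.map (CommRingCat.ofHom π₁.toRingHom)
  have htoR : ∀ {X : Scheme.{u}} (h : X ⟶ Spec R) (a : R ⟶ Γ(X, ⊤)), a = (Scheme.ΓSpecIso R).inv ≫ h.appTop →
      X.toSpecΓ ≫ Spec.map a = h := fun {X} h a ha => by
    rw [ha, Spec.map_comp, ← Scheme.toSpecΓ_naturality_assoc, ← SpecMap_ΓSpecIso_hom, ← Spec.map_comp,
      Iso.inv_hom_id, Spec.map_id, Category.comp_id]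
  have hjq : j ≫ q = p := by
    rw [Category.assoc, ← Spec.map_comp]
    exact htoR p _ (CommRingCat.hom_ext (RingHom.ext fun r => π₁.commutes r))
  have hvq : v ≫ q = φ := by
    rw [Category.assoc, ← Spec.map_comp]
    exact htoR φ _ (CommRingCat.hom_ext (RingHom.ext fun r => π₂.commutes r))
  have hωj : ω ≫ j = jW ≫ v := by
    rw [← Category.assoc, Scheme.toSpecΓ_naturality, ← Category.assoc jW, Scheme.toSpecΓ_naturality, Category.assoc,
      Category.assoc, ← Spec.map_comp, ← Spec.map_comp]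
    congr 2
    exact CommRingCat.hom_ext (RingHom.ext fun a => DFunLike.congr_fun hπ a)
  -- the pieces
  have piece : ∀ i, let U := W'.basicOpen (aB.hom (g i))
      IsOpenImmersion (U.ι ≫ j) ∧ Set.range (U.ι ≫ j) = q ⁻¹' SetLike.coe (PrimeSpectrum.basicOpen (g i)) := by
    intro i
    let b := aB.hom (g i)
    let U := W'.basicOpen b
    have hU : IsAffineOpen U := by have h := haff _ (hg i); rwa [hBo] at h
    haveI : IsAffine U.toScheme := hU
    let res := W'.presheaf.map (homOfLE (le_top : U ≤ ⊤)).op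
    letI := res.hom.toAlgebra
    haveI : IsLocalization.Away b Γ(W', U) := hloc W' b
    let T := Γ(U.toScheme, ⊤)
    let ψ : CommRingCat.of A ⟶ T := CommRingCat.ofHom π₁.toRingHom ≫ U.ι.appTop
    letI : Algebra A T := ψ.hom.toAlgebra
    have htop : Function.Bijective U.topIso.hom := ConcreteCategory.bijective_of_isIso _
    have hψ : ∀ a : A, U.topIso.hom (algebraMap A T a) = algebraMap Γ(W', ⊤) Γ(W', U) (π₁ a) := fun a =>
      congr($(topIso_comp U).hom (π₁ a))
    have hgA : π₁ (algebraMap R A (g i)) = b := π₁.commutes _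
    haveI : IsLocalization.Away (algebraMap R A (g i)) T := by
      refine IsLocalization.Away.mk _ ?_ (fun s => ?_) fun a a' h => ?_
      · have h := IsLocalization.Away.algebraMap_isUnit (S := Γ(W', U)) b
        rw [← hgA, ← hψ] at h
        exact (isUnit_map_iff U.topIso.commRingCatIsoToRingEquiv _).1 h
      · obtain ⟨m, x, hx⟩ := IsLocalization.Away.surj b (U.topIso.hom s)
        obtain ⟨n, a, ha⟩ := (hpro i).1 x
        refine ⟨m + n, a, htop.1 ?_⟩
        rw [map_mul, map_pow, hψ, hψ, hgA, ha, Algebra.smul_def, map_mul, ← hx, map_pow, map_pow, pow_add,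
          show algebraMap R Γ(W', ⊤) (g i) = b from rfl]
        ring
      · have h' := congrArg U.topIso.hom h
        rw [hψ, hψ] at h'
        obtain ⟨⟨_, m, rfl⟩, hm⟩ := (IsLocalization.eq_iff_exists (Submonoid.powers b) Γ(W', U)).1 h'
        obtain ⟨n, hn⟩ := (hpro i).2 (algebraMap R A (g i) ^ m * (a - a')) (by
          rw [map_mul, map_pow, map_sub, hgA, mul_sub]; exact sub_eq_zero.2 hm)
        refine ⟨n + m, sub_eq_zero.1 ?_⟩
        rw [Algebra.smul_def, map_pow] at hn
        rw [← hn, pow_add]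
        ring
    have e : U.ι ≫ j = U.toScheme.isoSpec.hom ≫ Spec.map (CommRingCat.ofHom (algebraMap A T)) := by
      show U.ι ≫ W'.toSpecΓ ≫ _ = _
      rw [Scheme.toSpecΓ_naturality_assoc, ← Spec.map_comp, Scheme.isoSpec_hom]
      rfl
    haveI : IsOpenImmersion (Spec.map (CommRingCat.ofHom (algebraMap A T))) :=
      IsOpenImmersion.of_isLocalization (algebraMap R A (g i))
    refine ⟨e ▸ inferInstance, Set.ext fun y => ⟨?_, fun hy => ?_⟩⟩
    · rintro ⟨x, rfl⟩
      show q ((U.ι ≫ j) x) ∈ PrimeSpectrum.basicOpen (g i)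
      rw [← Scheme.Hom.comp_apply, Category.assoc, hjq, Scheme.Hom.comp_apply]
      show (U.ι x) ∈ p ⁻¹ᵁ PrimeSpectrum.basicOpen (g i)
      rw [hBo]
      exact x.2
    · obtain ⟨z, hz⟩ : y ∈ Set.range (PrimeSpectrum.comap (algebraMap A T)) := by
        rw [PrimeSpectrum.localization_away_comap_range T (algebraMap R A (g i))]
        exact hy
      refine ⟨U.toScheme.isoSpec.inv z, ?_⟩
      rw [e, ← Scheme.Hom.comp_apply, Iso.inv_hom_id_assoc]
      exact hz
  refine ⟨CommRingCat.of A, q, v, j, (HasRingHomProperty.Spec_iff (P := @LocallyOfFinitePresentation)).2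
    (RingHom.finitePresentation_algebraMap.2 hA), hvq, hjq, Groth.L23.Lqf.isOpenImmersion_of_local j fun x => ?_, hωj, ?_⟩
  · obtain ⟨i, hi⟩ := hgcov (p x) (hp ⟨x, rfl⟩)
    refine ⟨_, (W'.basicOpen (aB.hom (g i))).ι, inferInstance, (piece i).1, ?_, ?_⟩
    · rw [Scheme.Opens.range_ι, ← hBo]; exact hi
    · rw [(piece i).2, Scheme.Opens.range_ι, ← hBo]
      intro z hz
      show p z ∈ PrimeSpectrum.basicOpen (g i)
      rw [← hjq, Scheme.Hom.comp_apply]
      exact hz
  · refine Set.ext fun y => ⟨?_, fun hy => ?_⟩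
    · rintro ⟨x, rfl⟩
      show q (j x) ∈ O
      rw [← Scheme.Hom.comp_apply, hjq]
      exact hp ⟨x, rfl⟩
    · obtain ⟨i, hi⟩ := hgcov (q y) hy
      obtain ⟨z, rfl⟩ : y ∈ Set.range ((W'.basicOpen (aB.hom (g i))).ι ≫ j) := by rw [(piece i).2]; exact hi
      exact ⟨_, (Scheme.Hom.comp_apply _ _ _).symm⟩

end Groth.L23.Approx
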