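import Groth.Agent.L23.Approx.EtaleDescend
import Groth.Agent.L23.Approx.ExtendScheme
import Groth.Agent.L23.Approx.QALimit

/-!
# Extending a stage of an open part over an affine scheme
-/

universe u

open CategoryTheory CategoryTheory.Limits AlgebraicGeometry Opposite AlgSp

set_option autoImplicit false
set_option linter.style.haveILetI false
set_option backward.isDefEq.respectTransparency false
set_option backward.isDefEq.respectTransparency.types false

noncomputable section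

namespace Groth.L23.Approx

variable {S : Scheme.{u}}

/-- A space representable over a scheme is a scheme. -/
theorem exists_scheme_iso {X : Sp S} {T : Over S} {f : X ⟶ (yon S).obj T} (hf : Representable f) :
    ∃ (W : Over S) (θ : (yon S).obj W ≅ X) (p : W ⟶ T), θ.hom ≫ f = (yon S).map p := by
  have sq := hf.isPullback (𝟙 ((yon S).obj T))
  haveI : IsIso (hf.fst (𝟙 ((yon S).obj T))) := sq.isIso_fst_of_isIso
  exact ⟨_, asIso (hf.fst (𝟙 ((yon S).obj T))), hf.snd _, sq.w.trans (Category.comp_id _)⟩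

theorem over_id_naturality {I : Type u} [SmallCategory I] (D : I ⥤ Sp S) {i : I} {a b : Over i} (φ : a ⟶ b) :
    D.map φ.left ≫ D.map b.hom = D.map a.hom ≫ 𝟙 (D.obj i) :=
  ((D.map_comp _ _).symm.trans (congrArg D.map (Over.w φ))).trans (Category.comp_id _).symm

variable [QuasiSeparatedSpace S]

/-- An affine scheme over a space is a limit of affine schemes of finite presentation, and a quasi-compact open of it
comes from a stage. -/
theorem exists_affine_model {B : AlgSp.Space S} (hBqc : IsQuasiCompactSp B.obj) (hBqs : IsQuasiSeparatedSp B.obj)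
    {T₀ : Over S} [IsAffine T₀.left] (b : (yon S).obj T₀ ⟶ B.obj) {P : Sp S} (hPqc : IsQuasiCompactSp P)
    {q : P ⟶ (yon S).obj T₀} (hq : RepWith @IsOpenImmersion q) :
    ∃ (T : Over S) (φ : T₀ ⟶ T) (bT : (yon S).obj T ⟶ B.obj) (Pk : Sp S) (jk : Pk ⟶ (yon S).obj T) (ζ : P ⟶ Pk),
      IsAffine T.left ∧ (yon S).map φ ≫ bT = b ∧ IsFinitePresentationMor bT ∧ RepWith @IsAffineHom ((yon S).map φ) ∧
      RepWith @IsOpenImmersion jk ∧ IsAlgSpace Pk ∧ IsQuasiCompactSp Pk ∧ IsPullback q ζ ((yon S).map φ) jk := by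
  obtain ⟨J, _, _, D, t, c, hc, e, hD, hDa, hDq, hDf, hDπ, hfac⟩ := exists_limit_quasiAffine (IsAlgSpace.yon_obj T₀)
    (isQuasiAffineMor_of_affine_source B.property hBqs b) hBqc hBqs
  obtain ⟨i, T', hT', ⟨θ⟩⟩ := Groth.L09.SpLimit.exists_affine hD hDa (fun i => (hDq i).1) (fun i => (hDq i).2) hc e.symm
  obtain ⟨k, Uk, jk, ζ, hjk, hUk, sqk⟩ := Groth.L09.SpLimit.exists_open_descend hD hDa (fun i => (hDq i).1)
    (fun i => (hDq i).2) hc (q ≫ e.inv) (repWith_comp hq (repWith_of_isIso e.inv)) hPqc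
  obtain ⟨l, ψi, ψk, -⟩ := IsCofilteredOrEmpty.cone_objs i k
  haveI := hT'
  obtain ⟨T, m, fst, sqT, hT⟩ := hDa l i ψi hT' θ.hom
  haveI : IsIso fst := sqT.isIso_fst_of_isIso
  obtain ⟨φ, hφ⟩ := (yon S).map_surjective (e.inv ≫ c.π.app l ≫ inv fst)
  have sql := IsPullback.of_hasPullback (D.map ψk) jk
  have hjl : RepWith @IsOpenImmersion (pullback.fst (D.map ψk) jk) := repWith_of_isPullback sql.flip hjk
  have hPk : IsAlgSpace Uk := isAlgSpace_of_representable_to (hD k) hjk.1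
  let ζl : P ⟶ pullback (D.map ψk) jk := sql.lift (q ≫ e.inv ≫ c.π.app l) ζ (by
    rw [Category.assoc, Category.assoc, c.w, ← sqk.w, Category.assoc])
  have sq₁ : IsPullback (q ≫ e.inv) ζl (c.π.app l) (pullback.fst (D.map ψk) jk) := by
    refine IsPullback.of_bot ?_ (by rw [sql.lift_fst, Category.assoc]) sql
    rw [sql.lift_snd, c.w]
    exact sqk
  refine ⟨T, φ, fst ≫ t.app l, _, pullback.fst (D.map ψk) jk ≫ inv fst, ζl, hT, ?_, ?_, ?_,
    repWith_comp hjl (repWith_of_isIso _), isAlgSpace_of_representable_to (hD l) hjl.1, ?_, ?_⟩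
  · rw [hφ, Category.assoc, Category.assoc, IsIso.inv_hom_id_assoc, hfac, Iso.inv_hom_id_assoc]
  · refine QAffineFp.fp_comp (IsAlgSpace.yon_obj T) (hD l) B.property ?_ (hDf l)
    exact QAffineFp.fp_open (IsAlgSpace.yon_obj T) (hD l) (isQuasiCompactSp_of_compactSpace) (hDq l).2
      (repWith_of_isIso fst)
  · rw [hφ]
    exact repWith_comp (repWith_of_isIso _) (repWith_comp (hDπ l) (repWith_of_isIso _))
  · exact Groth.L09.SpLimit.qcSp_of_affine hPk hUk (repWith_of_isPullback sql (isAffineMor_iff.1 (hDa _ _ ψk)))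
  · exact sq₁.of_iso (Iso.refl _) e (Iso.refl _) (asIso fst).symm (by simp) (by simp) (by simp [hφ]) (by simp)

set_option maxHeartbeats 1600000 in
/-- The extension of a stage over an affine scheme. -/
theorem exists_extension_space {B : AlgSp.Space S} (hBqc : IsQuasiCompactSp B.obj) (hBqs : IsQuasiSeparatedSp B.obj)
    {U' : AlgSp.Space S} {r' : U'.obj ⟶ B.obj} (hr' : IsFinitePresentationMor r') {U : Sp S} (hU : IsAlgSpace U)
    {u : U ⟶ U'.obj} (hu : RepWith @IsAffineHom u) {W' : Sp S} (hW' : IsAlgSpace W') (hW'qc : IsQuasiCompactSp W')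
    {w' : W' ⟶ U'.obj} (hw'e : LocP @Etale w') (hw's : IsSeparatedMor w') {P : Sp S} {ω : P ⟶ W'} {p : P ⟶ U}
    (sqP : IsPullback ω p w' u) {T₀ : Over S} [IsAffine T₀.left] {b : (yon S).obj T₀ ⟶ B.obj}
    {q : P ⟶ (yon S).obj T₀} (hq : RepWith @IsOpenImmersion q) (hb : p ≫ u ≫ r' = q ≫ b) :
    ∃ (U'' W'' : Sp S) (u'' : U ⟶ U'') (r'' : U'' ⟶ B.obj) (w'' : W'' ⟶ U'') (ω'' : P ⟶ W'') (T' : Over S)
      (v : T₀ ⟶ T') (jV : W'' ⟶ (yon S).obj T') (b' : (yon S).obj T' ⟶ B.obj),
      IsAlgSpace U'' ∧ IsAlgSpace W'' ∧ IsQuasiCompactSp W'' ∧ RepWith @IsAffineHom u'' ∧ u'' ≫ r'' = u ≫ r' ∧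
      IsFinitePresentationMor r'' ∧ LocP @Etale w'' ∧ IsSeparatedMor w'' ∧ IsPullback ω'' p w'' u'' ∧
      IsAffine T'.left ∧ (yon S).map v ≫ b' = b ∧ IsFinitePresentationMor b' ∧ RepWith @IsOpenImmersion jV ∧
      IsPullback q ω'' ((yon S).map v) jV ∧ w'' ≫ r'' = jV ≫ b' := by
  have hU'qc : IsQuasiCompactSp U'.obj := hr'.2.1 B.property hBqc (𝟙 _) (𝟙 _) r' IsPullback.of_id_fst
  have hU'qs : IsQuasiSeparatedSp U'.obj := Groth.L09.SpLimit.qsSp_of_qsMor hBqs hr'.2.2
  have hωa : RepWith @IsAffineHom ω := repWith_of_isPullback sqP.flip hu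
  have hP : IsAlgSpace P := isAlgSpace_of_representable_to hW' hωa.1
  have hPqc : IsQuasiCompactSp P := Groth.L09.SpLimit.qcSp_of_affine hW' hW'qc hωa
  have hW'qs : IsQuasiSeparatedSp W' := Groth.L09.SpLimit.qsSp_of_qsMor hU'qs
    (repWith_mono (fun φ (_ : IsClosedImmersion φ) => inferInstanceAs (QuasiCompact φ)) hw's)
  -- the model of the affine scheme
  obtain ⟨T, φ, bT, Pk, jk, ζ, hT, hφb, hbT, hφa, hjk, hPk, hPkqc, sqk⟩ := exists_affine_model hBqc hBqs b hPqc hq
  haveI := hT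
  -- the stages of the open part
  obtain ⟨I, _, _, _, D, t, c, hc, e, hD, hDa, ht, hfac⟩ := RelSpec.exists_limit_affine (X := U) hu hU'qc hU'qs
  have hcu : ∀ i, c.π.app i ≫ t.app i = e.hom ≫ u := fun i => by
    rw [← cancel_epi e.inv, hfac, Iso.inv_hom_id_assoc]
  haveI : IsConnected Iᵒᵖ := IsCofiltered.isConnected _
  let E := Groth.L09.SpLimit.pbSys t w'
  let cE := Groth.L09.SpLimit.pbCone t w' c (e.hom ≫ u) hcu
  have hcE : IsLimit cE := Groth.L09.SpLimit.isLimitPbCone t w' hc (e.hom ≫ u) hcu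
  have hEfst : ∀ i, RepWith @IsAffineHom (pullback.fst w' (t.app i)) := fun i =>
    repWith_of_isPullback (IsPullback.of_hasPullback w' (t.app i)).flip (isAffineMor_iff.1 (ht i).1)
  have hEsp : ∀ i, IsAlgSpace (E.obj i) := fun i => isAlgSpace_of_representable_to hW' (hEfst i).1
  have hEa : ∀ a b φ, IsAffineMor (E.map φ : E.obj a ⟶ E.obj b) := fun a b φ => isAffineMor_iff.2
    (repWith_of_isPullback (Groth.L09.SpLimit.isPullback_pbSys t w' φ).flip (isAffineMor_iff.1 (hDa a b φ)))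
  have hEqc : ∀ i, IsQuasiCompactSp (E.obj i) := fun i => Groth.L09.SpLimit.qcSp_of_affine hW' hW'qc (hEfst i)
  have hEqs : ∀ i, IsQuasiSeparatedSp (E.obj i) := fun i => Groth.L09.SpLimit.qsSp_of_affine hW'qs (hEfst i)
  -- `P` is the limit
  have sqe : IsPullback ω (p ≫ e.inv) w' (e.hom ≫ u) :=
    sqP.of_iso (Iso.refl _) (Iso.refl _) e.symm (Iso.refl _) (by simp) (by simp) (by simp) (by simp)
  let η : P ≅ cE.pt := sqe.isoPullback
  have hη₁ : η.inv ≫ ω = pullback.fst w' (e.hom ≫ u) := sqe.isoPullback_inv_fst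
  have hη₂ : η.inv ≫ p ≫ e.inv = pullback.snd w' (e.hom ≫ u) := sqe.isoPullback_inv_snd
  have hπ₁ : ∀ i, cE.π.app i ≫ pullback.fst w' (t.app i) = pullback.fst w' (e.hom ≫ u) := fun i =>
    (pullback.lift_fst _ _ _).trans (Category.comp_id _)
  -- the map to the open of the model
  let vk : (⟨Pk, hPk⟩ : AlgSp.Space S) ⟶ B := ⟨jk ≫ bT⟩
  have hvk : LocP @LocallyOfFinitePresentation vk.hom :=
    locP_comp etLocal_lfp hPk (IsAlgSpace.yon_obj T) B.property
      (locP_of_repWith etLocal_lfp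
        (repWith_mono (fun φ (_ : IsOpenImmersion φ) => inferInstanceAs (LocallyOfFinitePresentation φ)) hjk)) hbT.1
  obtain ⟨i₁⟩ : Nonempty Iᵒᵖ := inferInstance
  obtain ⟨l, ψ, x, hx₁, hx₂⟩ := SchImgHom.exists_stage (V := ⟨Pk, hPk⟩) hEsp hEa hEqc hEqs hcE vk hvk i₁
    (pullback.fst w' (t.app i₁) ≫ w' ≫ r') (η.inv ≫ ζ) (by
      show (η.inv ≫ ζ) ≫ jk ≫ bT = cE.π.app i₁ ≫ pullback.fst w' (t.app i₁) ≫ w' ≫ r'
      rw [← Category.assoc (cE.π.app i₁), hπ₁, ← hη₁, Category.assoc, Category.assoc, ← Category.assoc ζ,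
        ← sqk.w, Category.assoc, hφb, reassoc_of% sqP.w, hb])
  change x ≫ jk ≫ bT = _ at hx₂
  -- affine at a later stage
  haveI : IsConnected (Over l) := IsCofiltered.isConnected _
  have hcE' : IsLimit (cE.whisker (Over.forget l)) :=
    (Functor.Initial.isLimitWhiskerEquiv (Over.forget l) cE).symm hcE
  let tx : Over.forget l ⋙ E ⟶ (Functor.const (Over l)).obj Pk :=
    { app := fun j => E.map j.hom ≫ x
      naturality := fun a b φ => by
        show E.map φ.left ≫ E.map b.hom ≫ x = (E.map a.hom ≫ x) ≫ 𝟙 Pk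
        rw [← Category.assoc, over_id_naturality, Category.comp_id, Category.comp_id] }
  have hζa : RepWith @IsAffineHom ζ := repWith_of_isPullback sqk hφa
  have hPkqs : IsQuasiSeparatedSp Pk := Groth.L09.SpLimit.qsSp_of_qsMor
    (Groth.L09.SpLimit.qsSp_of_qsMor hBqs hbT.2.2) (QAffineFp.fp_open hPk (IsAlgSpace.yon_obj T) hPkqc
      (Groth.L09.SpLimit.qsSp_of_qsMor hBqs hbT.2.2) hjk).2.2
  obtain ⟨j₀, hj₀⟩ := Groth.L09.SpLimit.eventually_isAffineMor (fun j : Over l => hEsp j.left)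
    (fun a b φ => hEa _ _ _) hcE' hPk tx (η.inv ≫ ζ)
    (fun j => by
      show cE.π.app j.left ≫ E.map j.hom ≫ x = _
      rw [← Category.assoc, cE.w, hx₁])
    (fun j => hEqc j.left) (fun j => hEqs j.left) hPkqc hPkqs
    (isAffineMor_iff.2 (repWith_comp (repWith_of_isIso η.inv) hζa))
  have hxa : RepWith @IsAffineHom (E.map j₀.hom ≫ x) := isAffineMor_iff.1 (hj₀ j₀ (𝟙 _))
  let i := j₀.left
  let x' : E.obj i ⟶ Pk := E.map j₀.hom ≫ x
  let w'' : E.obj i ⟶ D.obj i := pullback.snd w' (t.app i)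
  let ω'' : P ⟶ E.obj i := η.hom ≫ cE.π.app i
  have hu'' : RepWith @IsAffineHom (e.inv ≫ c.π.app i) :=
    affine_of_comp (g := t.app i) (by rw [Category.assoc, hfac]; exact hu) (isAffineMor_iff.1 (ht i).1)
  have sqi : IsPullback ω'' p w'' (e.inv ≫ c.π.app i) := by
    refine IsPullback.of_right ?_ ?_ (IsPullback.of_hasPullback w' (t.app i))
    · rw [Category.assoc, hπ₁, Category.assoc, hfac, ← hη₁, Iso.hom_inv_id_assoc]
      exact sqP
    · rw [Category.assoc, show cE.π.app i ≫ w'' = pullback.snd w' (e.hom ≫ u) ≫ c.π.app i from pullback.lift_snd _ _ _,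
        ← Category.assoc η.hom, ← hη₂, Iso.hom_inv_id_assoc, Category.assoc]
  have hωx : ω'' ≫ x' = ζ := by
    rw [Category.assoc, ← Category.assoc (cE.π.app i), cE.w, hx₁, Iso.hom_inv_id_assoc]
  have hB : x' ≫ jk ≫ bT = w'' ≫ t.app i ≫ r' := by
    rw [Category.assoc, hx₂, ← Category.assoc (E.map j₀.hom), ← E.map_comp,
      ← Category.assoc (E.map _), show E.map (j₀.hom ≫ ψ) ≫ pullback.fst w' (t.app i₁) = pullback.fst w' (t.app i) from
        (pullback.lift_fst _ _ _).trans (Category.comp_id _), reassoc_of% (pullback.condition : pullback.fst w' (t.app i) ≫ w' = _)]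
  have hw''e : LocP @Etale w'' :=
    locP_of_isPullback etLocal_etale hW' U'.property (hD i) (IsPullback.of_hasPullback w' (t.app i)) hw'e
  have hw''s : IsSeparatedMor w'' := separated_of_isPullback (IsPullback.of_hasPullback w' (t.app i)) hw's
  have hr'' : IsFinitePresentationMor (t.app i ≫ r') :=
    QAffineFp.fp_comp (hD i) U'.property B.property (ht i).2 hr'
  -- everything is a scheme
  obtain ⟨O, θO, o, hθO⟩ := exists_scheme_iso hjk.1
  haveI : IsOpenImmersion o.left := (repWith_yon_map_iff _ _).1 (hθO ▸ repWith_comp (repWith_of_isIso θO.hom) hjk)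
  obtain ⟨Wl, θW, pl, hpl⟩ := exists_scheme_iso (f := x' ≫ θO.inv) (repWith_comp hxa (repWith_of_isIso θO.inv)).1
  haveI : IsAffineHom pl.left :=
    (repWith_yon_map_iff _ _).1 (hpl ▸ repWith_comp (repWith_of_isIso θW.hom) (repWith_comp hxa (repWith_of_isIso θO.inv)))
  obtain ⟨W0, θ0, j0, hθ0⟩ := exists_scheme_iso hq.1
  haveI : IsOpenImmersion j0.left := (repWith_yon_map_iff _ _).1 (hθ0 ▸ repWith_comp (repWith_of_isIso θ0.hom) hq)
  obtain ⟨ω0, hω0⟩ := (yon S).map_surjective (θ0.hom ≫ ω'' ≫ θW.inv)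
  obtain ⟨ζ0, hζ0⟩ := (yon S).map_surjective (θ0.hom ≫ ζ ≫ θO.inv)
  have hωp : ω0 ≫ pl = ζ0 := (yon S).map_injective (by
    rw [Functor.map_comp, hω0, ← hpl, hζ0, Category.assoc, Category.assoc, Iso.inv_hom_id_assoc,
      reassoc_of% hωx])
  have sq0 : IsPullback j0.left ζ0.left φ.left o.left :=
    (show IsPullback j0 ζ0 φ o from IsPullback.of_map (yon S) ((yon S).map_injective (by
      rw [Functor.map_comp, Functor.map_comp, ← hθ0, hζ0, Category.assoc, sqk.w, ← hθO]
      simp))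
      (sqk.of_iso θ0.symm (Iso.refl _) θO.symm (Iso.refl _) (by simp [← hθ0]) (by simp [hζ0]) (by simp)
        (by simp [← hθO]))).map (Over.forget S)
  have hlfpW : LocP @LocallyOfFinitePresentation ((yon S).map (pl ≫ o)) := by
    rw [Functor.map_comp, ← hpl, ← hθO]
    simp only [Category.assoc, Iso.inv_hom_id_assoc]
    refine locP_comp etLocal_lfp (IsAlgSpace.yon_obj Wl) (hEsp i) (IsAlgSpace.yon_obj T)
      (locP_of_repWith etLocal_lfp (repWith_mono
        (fun φ (_ : IsOpenImmersion φ) => inferInstanceAs (LocallyOfFinitePresentation φ)) (repWith_of_isIso _))) ?_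
    refine locP_of_comp_of_locP etLocal_lfp (Q := @LocallyOfFiniteType)
      (fun φ ψ (h₁ : LocallyOfFiniteType ψ) (h₂ : LocallyOfFinitePresentation (φ ≫ ψ)) => lfp_of_comp_lft φ ψ h₂)
      (hEsp i) (IsAlgSpace.yon_obj T) B.property (g := bT) ?_
      (locP_mono (fun φ (_ : LocallyOfFinitePresentation φ) => inferInstanceAs (LocallyOfFiniteType φ)) hbT.1)
    rw [Category.assoc, hB]
    exact locP_comp etLocal_lfp (hEsp i) (hD i) B.property
      (locP_mono (fun φ (_ : Etale φ) => inferInstanceAs (LocallyOfFinitePresentation φ)) hw''e) hr''.1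
  haveI : LocallyOfFinitePresentation (pl ≫ o).left :=
    (repWith_yon_map_iff _ _).1 (repWith_of_locP etLocal_lfp (IsAlgSpace.yon_obj T)
      ((IsAlgSpace.yon_obj T).representable_from_yon _) hlfpW)
  haveI : CompactSpace Wl.left := compactSpace_of_isQuasiCompactSp
    (qcSp_of_surjective (IsAlgSpace.yon_obj Wl) θW.inv (fun z => ⟨Points.map θW.hom z, by
      rw [← Points.map_comp, Iso.hom_inv_id, Points.map_id]⟩) (hEqc i))
  haveI : CompactSpace O.left := compactSpace_of_isQuasiCompactSp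
    (qcSp_of_surjective (IsAlgSpace.yon_obj O) θO.inv (fun z => ⟨Points.map θO.hom z, by
      rw [← Points.map_comp, Iso.hom_inv_id, Points.map_id]⟩) hPkqc)
  haveI : CompactSpace W0.left := compactSpace_of_isQuasiCompactSp
    (qcSp_of_surjective (IsAlgSpace.yon_obj W0) θ0.inv (fun z => ⟨Points.map θ0.hom z, by
      rw [← Points.map_comp, Iso.hom_inv_id, Points.map_id]⟩) hPqc)
  haveI : QuasiSeparatedSpace O.left := QuasiSeparatedSpace.of_isOpenEmbedding o.left.isOpenEmbedding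
  haveI : QuasiSeparatedSpace Wl.left := quasiSeparatedSpace_of_quasiSeparated pl.left
  let σ := T.left.isoSpec.hom
  let Oσ : (Spec Γ(T.left, ⊤)).Opens := (o.left ≫ σ).opensRange
  have hpre : σ ≫ T.left.isoSpec.inv = 𝟙 _ := Iso.hom_inv_id _
  obtain ⟨A, qA, vA, jA, hqA, hvq, hjq, hjA, hωj, hjr⟩ := exists_extension_scheme (φ.left ≫ σ) j0.left
    ((pl ≫ o).left ≫ σ) ω0.left (by
      rw [← Category.assoc, ← Category.assoc, ← Over.comp_left, ← Category.assoc, hωp, Over.comp_left, sq0.w])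
    Oσ (isCompact_range (o.left ≫ σ).continuous)
    (by rintro _ ⟨y, rfl⟩; exact ⟨pl.left y, by simp⟩)
    (by
      ext y
      constructor
      · rintro ⟨z, rfl⟩
        exact ⟨ζ0.left z, by rw [← Scheme.Hom.comp_apply, ← Scheme.Hom.comp_apply, ← Category.assoc,
          ← Category.assoc, sq0.w]⟩
      · rintro ⟨a, ha⟩
        have ha' : o.left a = φ.left y := σ.homeomorph.injective (by simpa using ha)
        obtain ⟨z, hz, -⟩ := Scheme.exists_preimage_of_isPullback sq0 y a ha'.symm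
        exact ⟨z, hz⟩)
    (fun g hg => by
      rw [show ((pl ≫ o).left ≫ σ) ⁻¹ᵁ PrimeSpectrum.basicOpen g =
        pl.left ⁻¹ᵁ ((o.left ≫ σ) ⁻¹ᵁ PrimeSpectrum.basicOpen g) from rfl]
      refine IsAffineOpen.preimage ?_ pl.left
      exact (IsAffineOpen.Spec_basicOpen g).preimage_of_isOpenImmersion (o.left ≫ σ) hg)
  haveI := hqA
  let T' : Over S := Over.mk (qA ≫ T.left.isoSpec.inv ≫ T.hom)
  let qT : T' ⟶ T := Over.homMk (qA ≫ T.left.isoSpec.inv) (Category.assoc _ _ _)
  let v : T₀ ⟶ T' := Over.homMk vA (by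
    show vA ≫ qA ≫ T.left.isoSpec.inv ≫ T.hom = T₀.hom
    rw [reassoc_of% hvq, ← Category.assoc σ, hpre, Category.id_comp]
    exact Over.w φ)
  let jT : Wl ⟶ T' := Over.homMk jA (by
    show jA ≫ qA ≫ T.left.isoSpec.inv ≫ T.hom = Wl.hom
    rw [reassoc_of% hjq, ← Category.assoc σ, hpre, Category.id_comp]
    exact Over.w (pl ≫ o))
  have hvqT : v ≫ qT = φ := Over.OverMorphism.ext (by
    show vA ≫ qA ≫ T.left.isoSpec.inv = φ.left
    rw [reassoc_of% hvq, hpre, Category.comp_id])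
  have hjqT : jT ≫ qT = pl ≫ o := Over.OverMorphism.ext (by
    show jA ≫ qA ≫ T.left.isoSpec.inv = (pl ≫ o).left
    rw [reassoc_of% hjq, hpre, Category.comp_id])
  have sqA : IsPullback j0 ω0 v jT := by
    have w : j0.left ≫ vA = ω0.left ≫ jA := hωj.symm
    refine IsPullback.of_map (Over.forget S) (Over.OverMorphism.ext w) ?_
    show IsPullback j0.left ω0.left vA jA
    haveI := hjA
    refine (IsOpenImmersion.isPullback ω0.left j0.left jA vA w ?_).flip
    ext y
    show vA y ∈ Set.range jA ↔ y ∈ Set.range j0.left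
    refine Iff.symm ?_
    rw [hjr, Set.mem_preimage, ← Scheme.Hom.comp_apply, hvq]
    constructor
    · rintro ⟨z, rfl⟩
      exact ⟨ζ0.left z, by rw [← Scheme.Hom.comp_apply, ← Scheme.Hom.comp_apply, ← Category.assoc,
        ← Category.assoc, sq0.w]⟩
    · rintro ⟨a, ha⟩
      have ha' : o.left a = φ.left y := σ.homeomorph.injective (by simpa using ha)
      obtain ⟨z, hz, -⟩ := Scheme.exists_preimage_of_isPullback sq0 y a ha'.symm
      exact ⟨z, hz⟩
  haveI : IsAffine T'.left := inferInstanceAs (IsAffine (Spec A))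
  have hqT : IsFinitePresentationMor ((yon S).map qT) := by
    haveI : LocallyOfFinitePresentation qT.left :=
      inferInstanceAs (LocallyOfFinitePresentation (qA ≫ T.left.isoSpec.inv))
    haveI : IsAffineHom qT.left := isAffineHom_of_isAffine _
    have ha : RepWith @IsAffineHom ((yon S).map qT) := repWith_map ‹_›
    exact ⟨locP_of_repWith etLocal_lfp (repWith_map ‹_›),
      isQuasiCompactMor_of_repWith (repWith_mono (fun φ (_ : IsAffineHom φ) => inferInstanceAs (QuasiCompact φ)) ha),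
      repWith_mono (fun φ (_ : IsClosedImmersion φ) => inferInstanceAs (QuasiCompact φ))
        ((isSeparatedMor_iff ha.1).2
          (repWith_mono (fun φ (_ : IsAffineHom φ) => inferInstanceAs (IsSeparated φ)) ha))⟩
  refine ⟨D.obj i, E.obj i, e.inv ≫ c.π.app i, t.app i ≫ r', w'', ω'', T', v, θW.inv ≫ (yon S).map jT,
    (yon S).map qT ≫ bT, hD i, hEsp i, hEqc i, hu'', by rw [Category.assoc, reassoc_of% (hfac i)], hr'', hw''e, hw''s,
    sqi, inferInstance, ?_, QAffineFp.fp_comp (IsAlgSpace.yon_obj T') (IsAlgSpace.yon_obj T) B.property hqT hbT,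
    repWith_comp (repWith_of_isIso _) (repWith_map hjA), ?_, ?_⟩
  · rw [← Functor.map_comp_assoc, hvqT, hφb]
  · exact (sqA.map (yon S)).of_iso θ0 (Iso.refl _) θW (Iso.refl _) (by simp [hθ0]) (by simp [hω0]) (by simp) (by simp)
  · rw [Category.assoc, ← Functor.map_comp_assoc, hjqT, Functor.map_comp, ← hpl, ← hθO]
    simp only [Category.assoc, Iso.inv_hom_id_assoc]
    exact hB.symm

end Groth.L23.Approx
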