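import Groth.Agent.L23.Approx.ExtendSpace
import Groth.Agent.L23.SepColimit
import Groth.Agent.L23.IntCover.Main
import Groth.Agent.L23.TargetZar
import Groth.Agent.L09.ElemSq.Glue.Space
import Groth.Agent.L09.ElemSq.Pushout
import Groth.Agent.L09.Filtration.Induction
import Mathlib.CategoryTheory.Sites.LeftExact
import Mathlib.CategoryTheory.Adhesive.Basic

/-!
# Absolute approximation: gluing approximations along elementary distinguished squares
-/

universe u

open CategoryTheory CategoryTheory.Limits AlgebraicGeometry Opposite AlgSp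

set_option autoImplicit false
set_option linter.style.haveILetI false
set_option linter.unusedSectionVars false
set_option backward.isDefEq.respectTransparency false
set_option backward.isDefEq.respectTransparency.types false

noncomputable section

namespace Groth.L23.Approx

variable {S : Scheme.{u}}

/-- A morphism affine over a space of finite presentation over `B`. -/
def Approximable (B : Sp S) {X : Sp S} (g : X ⟶ B) : Prop :=
  ∃ (X₀ : Sp S) (a : X ⟶ X₀) (r : X₀ ⟶ B),
    IsAlgSpace X₀ ∧ RepWith @IsAffineHom a ∧ IsFinitePresentationMor r ∧ a ≫ r = g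

variable [QuasiSeparatedSpace S]

/-- The points of a space covered by two maps. -/
theorem qcSp_of_two {U V W : Sp S} (hW : IsAlgSpace W) (hUqc : IsQuasiCompactSp U) (hVqc : IsQuasiCompactSp V)
    {j : U ⟶ W} {f : V ⟶ W} (hsq : IsElemDistSq j f) : IsQuasiCompactSp W := by
  refine qcSp_of_compactSpace hW ⟨?_⟩
  have hcov : (Set.univ : Set (Points W)) ⊆ Set.range (Points.map j) ∪ Set.range (Points.map f) := fun x _ => by
    by_cases hx : x ∈ Set.range (Points.map j)
    · exact Or.inl hx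
    · obtain ⟨-, -, T, P', i, p₁, p₂, ⟨-, hir, -⟩, sq, hiso⟩ := hsq
      obtain ⟨t, ht⟩ := hir.ge hx
      haveI := hiso
      exact Or.inr ⟨Points.map p₂ (Points.map (inv p₁) t), by
        rw [← Points.map_comp, ← Points.map_comp, ← sq.w, IsIso.inv_hom_id_assoc, ht]⟩
  haveI := compactSpace_of_qcSp hUqc
  haveI := compactSpace_of_qcSp hVqc
  rw [Set.Subset.antisymm hcov (Set.subset_univ _)]
  exact (isCompact_range (Points.continuous_map j)).union (isCompact_range (Points.continuous_map f))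

/-- A Zariski local property of a chart is tested on two open pieces. -/
theorem locP_of_two {P : MorphismProperty Scheme.{u}} [IsZariskiLocalAtSource P] {Y : Sp S} {G A A' : Over S}
    (kA : A ⟶ G) (kB : A' ⟶ G) [IsOpenImmersion kA.left] [IsOpenImmersion kB.left]
    (hcov : ∀ g : G.left, g ∈ Set.range kA.left ∨ g ∈ Set.range kB.left) {c : (yon S).obj G ⟶ Y}
    (hA : LocP P ((yon S).map kA ≫ c)) (hB : LocP P ((yon S).map kB ≫ c)) : LocP P c := by
  intro U V a b h ha hb w
  obtain ⟨a₀, rfl⟩ := (yon S).map_surjective a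
  haveI : Etale a₀.left := (repWith_yon_map_iff _ _).1 ha
  have key : ∀ {C : Over S} (k : C ⟶ G) [IsOpenImmersion k.left], LocP P ((yon S).map k ≫ c) →
      P ((a₀.left ⁻¹ᵁ k.left.opensRange).ι ≫ h.left) := by
    intro C k _ hk
    obtain ⟨y, hy⟩ := Groth.L09.ElemSq.exists_lift_open k a₀ (a₀.left ⁻¹ᵁ k.left.opensRange) le_rfl
    haveI : Etale (y.left ≫ k.left) := by
      rw [← Over.comp_left, hy]
      exact inferInstanceAs (Etale ((a₀.left ⁻¹ᵁ k.left.opensRange).ι ≫ a₀.left))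
    refine hk ((yon S).map y) b (Groth.L09.ElemSq.openInc _ ≫ h) (repWith_map (Etale.of_comp y.left k.left)) hb ?_
    rw [← Functor.map_comp_assoc, hy, Functor.map_comp, Category.assoc, w, Functor.map_comp, Category.assoc]
  let O : ULift.{u} Bool → U.left.Opens := fun i =>
    bif i.down then a₀.left ⁻¹ᵁ kA.left.opensRange else a₀.left ⁻¹ᵁ kB.left.opensRange
  have hO : TopologicalSpace.IsOpenCover O := eq_top_iff.2 fun t _ => TopologicalSpace.Opens.mem_iSup.2
    ((hcov (a₀.left t)).elim (fun h => ⟨⟨true⟩, h⟩) fun h => ⟨⟨false⟩, h⟩)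
  refine (IsZariskiLocalAtSource.iff_of_openCover (P := P) (U.left.openCoverOfIsOpenCover O hO)).2 fun i => ?_
  match i with
  | ⟨true⟩ => exact key kA hA
  | ⟨false⟩ => exact key kB hB

/-- Quasi-compactness of a fibre product is symmetric. -/
theorem qcSp_pullback_symm {X Y Z : Sp S} {x : X ⟶ Z} {y : Y ⟶ Z} (h : IsAlgSpace (pullback x y))
    (hq : IsQuasiCompactSp (pullback y x)) : IsQuasiCompactSp (pullback x y) :=
  qcSp_of_surjective h (pullbackSymmetry y x).hom (fun p => ⟨Points.map (pullbackSymmetry y x).inv p, by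
    rw [← Points.map_comp, Iso.inv_hom_id, Points.map_id]⟩) hq

/-- Quasi-compactness of a fibre product is tested on two pieces of the chart. -/
theorem qcSp_pullback_two {X Z : Sp S} {b : Z ⟶ X} {G A A' : Over S} {d : (yon S).obj G ⟶ X}
    (hP : IsAlgSpace (pullback b d)) (kA : A ⟶ G) (kB : A' ⟶ G)
    (hcov : ∀ g : G.left, g ∈ Set.range kA.left ∨ g ∈ Set.range kB.left) {cA : (yon S).obj A ⟶ X}
    {cB : (yon S).obj A' ⟶ X} (eA : (yon S).map kA ≫ d = cA) (eB : (yon S).map kB ≫ d = cB)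
    (hA : IsQuasiCompactSp (pullback b cA)) (hB : IsQuasiCompactSp (pullback b cB)) :
    IsQuasiCompactSp (pullback b d) := by
  refine qcSp_of_compactSpace hP ⟨?_⟩
  let mA : pullback b cA ⟶ pullback b d :=
    pullback.map b cA b d (𝟙 Z) ((yon S).map kA) (𝟙 X) (by simp) (by simp [eA])
  let mB : pullback b cB ⟶ pullback b d :=
    pullback.map b cB b d (𝟙 Z) ((yon S).map kB) (𝟙 X) (by simp) (by simp [eB])
  have hlift : ∀ {C : Over S} (k : C ⟶ G) (cC : (yon S).obj C ⟶ X) (eC : (yon S).map k ≫ d = cC)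
      (e : Points (pullback b d)) (w : C.left), Points.map (pullback.snd b d) e = Points.ofScheme G (k.left w) →
      e ∈ Set.range (Points.map (pullback.map b cC b d (𝟙 Z) ((yon S).map k) (𝟙 X) (by simp) (by simp [eC]))) := by
    intro C k cC eC e w he
    subst eC
    have sq : IsPullback (pullback.snd b ((yon S).map k ≫ d)) (pullback.map b ((yon S).map k ≫ d) b d (𝟙 Z)
        ((yon S).map k) (𝟙 X) (by simp) (by simp)) ((yon S).map k) (pullback.snd b d) := by
      refine (IsPullback.of_right ?_ (pullback.lift_snd _ _ _) (IsPullback.of_hasPullback b d)).flip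
      rw [show pullback.map b ((yon S).map k ≫ d) b d (𝟙 Z) ((yon S).map k) (𝟙 X) (by simp) (by simp) ≫
        pullback.fst b d = pullback.fst b ((yon S).map k ≫ d) from (pullback.lift_fst _ _ _).trans (Category.comp_id _)]
      exact IsPullback.of_hasPullback b ((yon S).map k ≫ d)
    obtain ⟨p, -, hp⟩ := exists_of_isPullback sq (Points.ofScheme C w) e (by
      rw [he, ← Points.ofPt_eq_map_ofScheme, ofPt_map])
    exact ⟨p, hp⟩
  have hc : (Set.univ : Set (Points (pullback b d))) ⊆ Set.range (Points.map mA) ∪ Set.range (Points.map mB) := by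
    intro e _
    obtain ⟨g, hg⟩ := (Points.schemeEquiv G).surjective (Points.map (pullback.snd b d) e)
    rcases hcov g with ⟨w, rfl⟩ | ⟨w, rfl⟩
    · exact Or.inl (hlift kA cA eA e w hg.symm)
    · exact Or.inr (hlift kB cB eB e w hg.symm)
  haveI := compactSpace_of_qcSp hA
  haveI := compactSpace_of_qcSp hB
  rw [Set.Subset.antisymm hc (Set.subset_univ _)]
  exact (isCompact_range (Points.continuous_map mA)).union (isCompact_range (Points.continuous_map mB))

/-- The mixed pieces of the relation of a pushout. -/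
theorem qcSp_mixed {U' W' X₀ Z : Sp S} {T' : Over S} (hU' : IsAlgSpace U') (hW' : IsAlgSpace W')
    (hW'qc : IsQuasiCompactSp W') (hU'qs : IsQuasiSeparatedSp U') {w' : W' ⟶ U'} {jV : W' ⟶ (yon S).obj T'}
    {j₀ : U' ⟶ X₀} {f₀ : (yon S).obj T' ⟶ X₀} (hpb : IsPullback jV w' f₀ j₀) (hZ : IsAlgSpace Z)
    (hZqc : IsQuasiCompactSp Z) (z : Z ⟶ U') : IsQuasiCompactSp (pullback (z ≫ j₀) f₀) := by
  have sqR := IsPullback.of_hasPullback (z ≫ j₀) f₀
  obtain ⟨l, hl₁, hl₂⟩ := hpb.flip.exists_lift (pullback.fst (z ≫ j₀) f₀ ≫ z) (pullback.snd (z ≫ j₀) f₀) (by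
    rw [Category.assoc]; exact sqR.w)
  have sq : IsPullback (pullback.fst (z ≫ j₀) f₀) l z w' :=
    IsPullback.of_bot (by rw [hl₂]; exact sqR) hl₁.symm hpb.flip
  exact qcMor_of_qc_source hW' hU' hW'qc hU'qs w' hZ hZqc z _ _ sq.flip

/-- A space glued from quasi-separated pieces along a quasi-compact overlap is quasi-separated. -/
theorem qsSp_of_pushout {U' W' X₀ : Sp S} {T' A G : Over S} [IsAffine T'.left] [IsAffine A.left] [IsAffine G.left]
    (hU' : IsAlgSpace U') (hW' : IsAlgSpace W') (hX₀ : IsAlgSpace X₀) (hW'qc : IsQuasiCompactSp W')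
    (hU'qs : IsQuasiSeparatedSp U') {w' : W' ⟶ U'} (hw' : IsEtaleMor w') {jV : W' ⟶ (yon S).obj T'}
    (hjV : RepWith @IsOpenImmersion jV)
    {j₀ : U' ⟶ X₀} [Mono j₀] {f₀ : (yon S).obj T' ⟶ X₀} (hpb : IsPullback jV w' f₀ j₀)
    (hL : Groth.L09.ElemSq.Glue.LocAgree jV w' f₀) (aU : (yon S).obj A ⟶ U') (kA : A ⟶ G) (kB : T' ⟶ G)
    (hcov : ∀ g : G.left, g ∈ Set.range kA.left ∨ g ∈ Set.range kB.left) {d : (yon S).obj G ⟶ X₀}
    (hdA : (yon S).map kA ≫ d = aU ≫ j₀) (hdB : (yon S).map kB ≫ d = f₀) (hde : RepWith @Etale d)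
    (hds : RepWith @Surjective d) : IsQuasiSeparatedSp X₀ := by
  have hsp : ∀ {Y Z : Sp S} (y : Y ⟶ X₀) (z : Z ⟶ X₀), IsAlgSpace Y → IsAlgSpace Z → IsAlgSpace (pullback y z) :=
    fun y z hY hZ => isAlgSpace_of_isPullback hX₀.diag hY hZ (IsPullback.of_hasPullback y z)
  have hA := IsAlgSpace.yon_obj A
  have hT := IsAlgSpace.yon_obj T'
  have hG := IsAlgSpace.yon_obj G
  have hAqc : IsQuasiCompactSp ((yon S).obj A) := isQuasiCompactSp_of_compactSpace
  have hAA : IsQuasiCompactSp (pullback (aU ≫ j₀) (aU ≫ j₀)) := by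
    have sq := IsPullback.of_hasPullback (aU ≫ j₀) (aU ≫ j₀)
    have e : pullback.fst (aU ≫ j₀) (aU ≫ j₀) ≫ aU = pullback.snd (aU ≫ j₀) (aU ≫ j₀) ≫ aU :=
      (cancel_mono j₀).1 (by simpa using sq.w)
    exact qcMor_of_qc_source hA hU' hAqc hU'qs aU hA hAqc aU _ _
      (IsPullback.mk' e (fun Z a b h₁ h₂ => pullback.hom_ext h₁ h₂) fun Z a b h =>
        ⟨pullback.lift a b (by rw [reassoc_of% h]), pullback.lift_fst _ _ _, pullback.lift_snd _ _ _⟩)
  have hAT : IsQuasiCompactSp (pullback (aU ≫ j₀) f₀) := qcSp_mixed hU' hW' hW'qc hU'qs hpb hA hAqc aU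
  have hTA : IsQuasiCompactSp (pullback f₀ (aU ≫ j₀)) := qcSp_pullback_symm (hsp _ _ hT hA) hAT
  have hTT : IsQuasiCompactSp (pullback f₀ f₀) := by
    obtain ⟨hE, -, -, hEcov⟩ := Groth.L09.ElemSq.Glue.kernel_facts hU' hT hW' hjV hw' hpb.w hL
    let m : pullback (w' ≫ j₀) f₀ ⟶ pullback f₀ f₀ :=
      pullback.map (w' ≫ j₀) f₀ f₀ f₀ jV (𝟙 _) (𝟙 _) (by simp [hpb.w]) (by simp)
    have sqm : IsPullback (pullback.fst (w' ≫ j₀) f₀) m jV (pullback.fst f₀ f₀) := by
      refine (IsPullback.of_right ?_ (pullback.lift_fst _ _ _) (IsPullback.of_hasPullback f₀ f₀).flip).flip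
      rw [show m ≫ pullback.snd f₀ f₀ = pullback.snd (w' ≫ j₀) f₀ from
        (pullback.lift_snd _ _ _).trans (Category.comp_id _), hpb.w]
      exact (IsPullback.of_hasPullback (w' ≫ j₀) f₀).flip
    have hc : (Set.univ : Set (Points (pullback f₀ f₀))) ⊆
        Set.range (Points.map (pullback.diagonal f₀)) ∪ Set.range (Points.map m) := by
      intro e _
      rcases hEcov e with h | ⟨y, hy⟩
      · exact Or.inl h
      · obtain ⟨p, -, hp⟩ := exists_of_isPullback sqm y e hy
        exact Or.inr ⟨p, hp⟩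
    haveI := compactSpace_of_qcSp (isQuasiCompactSp_of_compactSpace (T := T'))
    haveI := compactSpace_of_qcSp (qcSp_mixed hU' hW' hW'qc hU'qs hpb hW' hW'qc w')
    refine qcSp_of_compactSpace hE ⟨?_⟩
    rw [Set.Subset.antisymm hc (Set.subset_univ _)]
    exact (isCompact_range (Points.continuous_map _)).union (isCompact_range (Points.continuous_map m))
  have hR : IsQuasiCompactSp (pullback d d) := qcSp_pullback_two (hsp _ _ hG hG) kA kB hcov hdA hdB
    (qcSp_pullback_symm (hsp _ _ hG hA) (qcSp_pullback_two (hsp _ _ hA hG) kA kB hcov hdA hdB hAA hAT))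
    (qcSp_pullback_symm (hsp _ _ hG hT) (qcSp_pullback_two (hsp _ _ hT hG) kA kB hcov hdA hdB hTA hTT))
  obtain ⟨R, s, t, sR⟩ := exists_isPullback_of_representable hde.1 d
  haveI : CompactSpace R.left := by
    haveI := compactSpace_of_qcSp hR
    haveI : CompactSpace (Points ((yon S).obj R)) :=
      (show Function.Surjective (Points.map sR.isoPullback.inv) from fun x =>
        ⟨Points.map sR.isoPullback.hom x, by rw [← Points.map_comp, Iso.hom_inv_id, Points.map_id]⟩).compactSpace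
        (Points.continuous_map _)
    exact (Points.schemeHomeo R).symm.compactSpace
  haveI : QuasiCompact s.left := (HasAffineProperty.iff_of_isAffine (P := @QuasiCompact)).2 ‹_›
  exact Qs.isQuasiSeparatedSp_of_compact hX₀ fun U V P a b fst snd hU hV sq =>
    Qs.compact_of_chart hX₀ hde hds sR U V P a b fst snd sq


set_option maxHeartbeats 1600000 in
/-- Approximations glue along an elementary distinguished square with affine second part. -/
theorem approximable_step {B : AlgSp.Space S} (hBqc : IsQuasiCompactSp B.obj) (hBqs : IsQuasiSeparatedSp B.obj)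
    {U W : Sp S} (hU : IsAlgSpace U) (hW : IsAlgSpace W) (hUqc : IsQuasiCompactSp U) (hWqs : IsQuasiSeparatedSp W)
    {T₀ : Over S} [IsAffine T₀.left] {j : U ⟶ W} {f : (yon S).obj T₀ ⟶ W} (hsq : IsElemDistSq j f)
    {g : W ⟶ B.obj} (h : Approximable B.obj (j ≫ g)) : Approximable B.obj g := by
  obtain ⟨U₀, a, r, hU₀, ha, hr, har⟩ := h
  have hj := hsq.1
  haveI := mono_of_repWith_openImmersion hj
  have sqP := IsPullback.of_hasPullback j f
  have hq : RepWith @IsOpenImmersion (pullback.snd j f) := repWith_of_isPullback sqP hj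
  have hP : IsAlgSpace (pullback j f) := isAlgSpace_of_representable_to (IsAlgSpace.yon_obj T₀) hq.1
  haveI := mono_of_repWith_openImmersion hq
  have hPqc : IsQuasiCompactSp (pullback j f) :=
    qcMor_of_qc_source (IsAlgSpace.yon_obj T₀) hW isQuasiCompactSp_of_compactSpace hWqs f hU hUqc j _ _ sqP.flip
  have hfe : LocP @Etale f := (isEtaleMor_iff_locP (IsAlgSpace.yon_obj T₀) hW f).1 hsq.2.1
  haveI : IsSeparated T₀.hom := IntCover.isSeparated_of_isAffine_source
  have hfs : IsSeparatedMor f := SepColim.isSeparatedMor_of_separated (B := ⟨W, hW⟩) f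
  have hpe : LocP @Etale (pullback.fst j f) :=
    locP_of_isPullback etLocal_etale (IsAlgSpace.yon_obj T₀) hW hU sqP.flip hfe
  have hps : IsSeparatedMor (pullback.fst j f) := separated_of_isPullback sqP.flip hfs
  have hU₀qc : IsQuasiCompactSp U₀ := hr.2.1 B.property hBqc (𝟙 _) (𝟙 _) r IsPullback.of_id_fst
  have hU₀qs : IsQuasiSeparatedSp U₀ := Groth.L09.SpLimit.qsSp_of_qsMor hBqs hr.2.2
  obtain ⟨U₁, W₁, u₁, r₁, w₁, ω₁, hU₁, hW₁, hu₁, hur₁, hr₁, hW₁qc, hw₁e, hw₁s, sq₁⟩ :=
    exists_etale_stage (U₀ := ⟨U₀, hU₀⟩) hU ha hU₀qc hU₀qs hP hPqc hpe hps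
  obtain ⟨U', W', u, r', w', ω, T', v, jV, b', hU', hW', hW'qc, hu, hur, hr', hw'e, hw's, sqω, hT', hvb, hb', hjV, sqv,
      hB⟩ := exists_extension_space hBqc hBqs (U' := ⟨U₁, hU₁⟩) (r' := r₁ ≫ r)
    (QAffineFp.fp_comp hU₁ hU₀ B.property hr₁ hr) hU hu₁ hW₁ hW₁qc hw₁e hw₁s sq₁
    (b := f ≫ g) (q := pullback.snd j f) hq (by
      rw [← Category.assoc u₁, hur₁, har, ← Category.assoc, sqP.w, Category.assoc])
  haveI := hT'
  haveI := mono_of_repWith_openImmersion hjV
  have hur' : u ≫ r' = j ≫ g := by rw [hur, ← Category.assoc, hur₁, har]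
  -- glue
  obtain ⟨X₀, j₀, f₀, _, hpo, hpb, hL⟩ := Groth.L09.ElemSq.Glue.exists_pushout jV w'
  obtain ⟨hX₀, hsq₀⟩ := Groth.L09.ElemSq.Glue.space_facts hU' (IsAlgSpace.yon_obj T') hW' hjV
    ((isEtaleMor_iff_locP hW' hU' w').2 hw'e) hpo hpb hL
  have hU'qc : IsQuasiCompactSp U' := hr'.2.1 B.property hBqc (𝟙 _) (𝟙 _) r' IsPullback.of_id_fst
  have hU'qs : IsQuasiSeparatedSp U' := Groth.L09.SpLimit.qsSp_of_qsMor hBqs hr'.2.2
  obtain ⟨r₀, hr₀f, hr₀j⟩ : ∃ r₀ : X₀ ⟶ B.obj, f₀ ≫ r₀ = b' ∧ j₀ ≫ r₀ = r' :=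
    ⟨hpo.desc b' r' hB.symm, hpo.inl_desc _ _ _, hpo.inr_desc _ _ _⟩
  -- the map
  obtain ⟨h, hjh, hfh, huniq⟩ := Groth.L09.ElemSq.exists_desc hU (IsAlgSpace.yon_obj T₀) hW hsq sqP (u ≫ j₀)
    ((yon S).map v ≫ f₀) (by rw [← reassoc_of% sqω.w, reassoc_of% sqv.w, hpo.w])
  have hpoW : IsPushout (pullback.snd j f) (pullback.fst j f) f j := by
    refine IsPushout.of_isColimit' ⟨sqP.w.symm⟩ (PushoutCocone.isColimitAux' _ fun s => ?_)
    have e := Groth.L09.ElemSq.exists_desc hU (IsAlgSpace.yon_obj T₀) hW hsq sqP s.inr s.inl s.condition.symm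
    exact ⟨e.choose, e.choose_spec.2.1, e.choose_spec.1, fun {m} hm₁ hm₂ => e.choose_spec.2.2 m hm₂ hm₁⟩
  haveI : Mono jV := inferInstance
  obtain ⟨sqV, sqU⟩ := (Adhesive.van_kampen hpo (pullback.snd j f) (pullback.fst j f) f j ω ((yon S).map v) u h
    sqv sqω.flip ⟨hfh⟩ ⟨hjh⟩ ⟨sqP.w.symm⟩).1 hpoW
  have hgr : h ≫ r₀ = g := by
    refine hpoW.hom_ext ?_ ?_
    · rw [reassoc_of% hfh, hr₀f, hvb]
    · rw [reassoc_of% hjh, hr₀j, hur']
  -- the atlas
  obtain ⟨A, aU, hA, hAe, hAs⟩ := Qs.exists_affine_atlas hU' hU'qc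
  haveI := hA
  obtain ⟨G₁, kA₁, kB₁, _, _, hcov₁, d₁, hd₁A, hd₁B, hd₁e, hd₁s⟩ := Groth.L09.ElemSq.exists_atlas_sum hX₀ hsq₀ aU
    hAe hAs (𝟙 ((yon S).obj T')) (repWith_of_isIso _) (repWith_of_isIso _)
  let G : Over S := Over.mk (coprod.desc A.hom T'.hom)
  haveI : IsAffine G.left := inferInstanceAs (IsAffine (A.left ⨿ T'.left))
  let φ : G ⟶ G₁ := Over.homMk (coprod.desc kA₁.left kB₁.left) (coprod.hom_ext (by simp [G]) (by simp [G]))
  let kA : A ⟶ G := Over.homMk coprod.inl (by simp [G])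
  let kB : T' ⟶ G := Over.homMk coprod.inr (by simp [G])
  haveI : IsOpenImmersion kA.left := inferInstanceAs (IsOpenImmersion (coprod.inl : A.left ⟶ A.left ⨿ T'.left))
  haveI : IsOpenImmersion kB.left := inferInstanceAs (IsOpenImmersion (coprod.inr : T'.left ⟶ A.left ⨿ T'.left))
  have hcov : ∀ g : G.left, g ∈ Set.range kA.left ∨ g ∈ Set.range kB.left := fun g => by
    obtain ⟨i, w, hw⟩ := (coprodOpenCover.{u, 0} A.left T'.left).exists_eq g
    cases i with
    | inl _ => exact Or.inl ⟨w, hw⟩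
    | inr _ => exact Or.inr ⟨w, hw⟩
  have hφA : kA ≫ φ = kA₁ := Over.OverMorphism.ext (coprod.inl_desc _ _)
  have hφB : kB ≫ φ = kB₁ := Over.OverMorphism.ext (coprod.inr_desc _ _)
  have hφe : Etale φ.left := IsZariskiLocalAtSource.of_openCover (coprodOpenCover.{u, 0} A.left T'.left) fun i => by
    cases i with
    | inl _ =>
      show Etale (coprod.inl ≫ coprod.desc kA₁.left kB₁.left)
      rw [coprod.inl_desc]; infer_instance
    | inr _ =>
      show Etale (coprod.inr ≫ coprod.desc kA₁.left kB₁.left)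
      rw [coprod.inr_desc]; infer_instance
  have hφs : Surjective φ.left := ⟨fun x => by
    rcases hcov₁ x with ⟨w, rfl⟩ | ⟨w, rfl⟩
    · exact ⟨kA.left w, by rw [← Scheme.Hom.comp_apply, ← Over.comp_left, hφA]⟩
    · exact ⟨kB.left w, by rw [← Scheme.Hom.comp_apply, ← Over.comp_left, hφB]⟩⟩
  let d := (yon S).map φ ≫ d₁
  have hdA : (yon S).map kA ≫ d = aU ≫ j₀ := by rw [← Functor.map_comp_assoc, hφA, hd₁A]
  have hdB : (yon S).map kB ≫ d = f₀ := by rw [← Functor.map_comp_assoc, hφB, hd₁B, Category.id_comp]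
  have hde : RepWith @Etale d := repWith_comp (repWith_map hφe) hd₁e
  have hds : RepWith @Surjective d := repWith_comp (repWith_map hφs) hd₁s
  -- affineness
  have hh : IsAffineMor h := by
    refine isAffineMor_of_cover hde hds (IsPullback.of_hasPullback h d) (isAffineMor_iff.2 ?_)
    have hQ : IsAlgSpace (pullback h d) :=
      isAlgSpace_of_isPullback hX₀.diag hW (IsAlgSpace.yon_obj G) (IsPullback.of_hasPullback h d)
    let C : ULift.{u} Bool → Over S := fun i => bif i.down then A else T'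
    let k : ∀ i, C i ⟶ G := fun i => match i with
      | ⟨true⟩ => kA
      | ⟨false⟩ => kB
    have hk : IsZarCover (fun i => (yon S).obj (C i)) (fun i => (yon S).map (k i)) := by
      refine ⟨fun i => ?_, fun x => ?_⟩
      · match i with
        | ⟨true⟩ => exact repWith_map (inferInstanceAs (IsOpenImmersion kA.left))
        | ⟨false⟩ => exact repWith_map (inferInstanceAs (IsOpenImmersion kB.left))
      · obtain ⟨g, rfl⟩ := (Points.schemeEquiv G).surjective x
        rcases hcov g with ⟨w, rfl⟩ | ⟨w, rfl⟩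
        · exact ⟨⟨true⟩, Points.ofScheme A w, (Points.ofPt_eq_map_ofScheme ((yon S).map kA) w).symm.trans (ofPt_map kA w)⟩
        · exact ⟨⟨false⟩, Points.ofScheme T' w, (Points.ofPt_eq_map_ofScheme ((yon S).map kB) w).symm.trans (ofPt_map kB w)⟩
    refine TZar.repWith_of_zarCover hQ (IsAlgSpace.yon_obj G) hk
      (fun i => IsPullback.of_hasPullback (pullback.snd h d) ((yon S).map (k i))) fun i => ?_
    have sq := (IsPullback.of_hasPullback (pullback.snd h d) ((yon S).map (k i))).paste_horiz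
      (IsPullback.of_hasPullback h d)
    match i with
    | ⟨true⟩ =>
      dsimp only [k, C] at sq ⊢
      rw [hdA] at sq
      obtain ⟨l, hl₁, hl₂⟩ := sqU.exists_lift (pullback.fst (pullback.snd h d) ((yon S).map kA) ≫ pullback.fst h d)
        (pullback.snd (pullback.snd h d) ((yon S).map kA) ≫ aU) (by simpa using sq.w)
      exact repWith_of_isPullback (IsPullback.of_right (by rw [hl₁]; exact sq) hl₂ sqU) hu
    | ⟨false⟩ =>
      dsimp only [k, C] at sq ⊢
      rw [hdB, ← Category.id_comp f₀] at sq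
      obtain ⟨l, hl₁, hl₂⟩ := sqV.exists_lift (pullback.fst (pullback.snd h d) ((yon S).map kB) ≫ pullback.fst h d)
        (pullback.snd (pullback.snd h d) ((yon S).map kB) ≫ 𝟙 _) (by simpa using sq.w)
      exact repWith_of_isPullback (IsPullback.of_right (by rw [hl₁]; exact sq) hl₂ sqV)
        (repWith_map (isAffineHom_of_isAffine v.left))
  -- finite presentation
  have hX₀qc : IsQuasiCompactSp X₀ := qcSp_of_two hX₀ hU'qc isQuasiCompactSp_of_compactSpace hsq₀
  have hX₀qs : IsQuasiSeparatedSp X₀ := qsSp_of_pushout hU' hW' hX₀ hW'qc hU'qs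
    ((isEtaleMor_iff_locP hW' hU' w').2 hw'e) hjV hpb hL aU kA kB hcov hdA hdB hde hds
  have hr₀ : IsFinitePresentationMor r₀ := by
    refine ⟨?_, qcMor_of_qc_source hX₀ B.property hX₀qc hBqs r₀, Groth.L09.SpLimit.qsMor_of_qsSp hX₀qs r₀⟩
    refine locP_of_source_cover etLocal_lfp (IsAlgSpace.yon_obj G) B.property hde hds
      (locP_of_two kA kB hcov ?_ ?_)
    · rw [reassoc_of% hdA, hr₀j]
      exact locP_comp etLocal_lfp (IsAlgSpace.yon_obj A) hU' B.property (locP_of_repWith etLocal_lfp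
        (repWith_mono (fun φ (_ : Etale φ) => inferInstanceAs (LocallyOfFinitePresentation φ)) hAe)) hr'.1
    · rw [reassoc_of% hdB, hr₀f]
      exact hb'.1
  exact ⟨X₀, h, r₀, hX₀, isAffineMor_iff.1 hh, hr₀, hgr⟩

end Groth.L23.Approx
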