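import Groth.Agent.L23.Approx.Main
import Groth.Agent.L09.SpLimit.Separated
import Groth.Agent.L09.SpLimit.Eventually

/-!
# Limits of spaces of finite presentation, and closed immersions into them
-/

universe u

open CategoryTheory CategoryTheory.Limits AlgebraicGeometry Opposite AlgSp TopologicalSpace

set_option autoImplicit false
set_option linter.style.haveILetI false
set_option linter.unusedSectionVars false
set_option backward.isDefEq.respectTransparency false
set_option backward.isDefEq.respectTransparency.types false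

noncomputable section

namespace Groth.L23.Approx

variable {S : Scheme.{u}}

/-- A compact set of points is inside a quasi-compact open subspace. -/
theorem exists_qc_open_superset {Y : Sp S} (hY : IsAlgSpace Y) {Z : Set (Points Y)} (hZc : IsCompact Z) :
    ∃ O : Opens (Points Y), IsQuasiCompactSp (openSub O) ∧ Z ⊆ O := by
  choose W a hW ha hmem using fun x => exists_affine_etale_nhd hY x
  obtain ⟨t, ht⟩ := hZc.elim_finite_subcover (fun x => Set.range (Points.ofPt (a x)))
    (fun x => (isOpenMap_ofPt (ha x)).isOpen_range) fun x _ => Set.mem_iUnion.2 ⟨x, hmem x⟩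
  refine ⟨⟨⋃ x ∈ t, Set.range (Points.ofPt (a x)),
    isOpen_biUnion fun x _ => (isOpenMap_ofPt (ha x)).isOpen_range⟩, qcSp_of_compactSpace (isAlgSpace_openSub _ hY)
      ⟨?_⟩, ht⟩
  have he := isEmbedding_map_of_immersion hY
    (repWith_mono (fun φ (_ : IsOpenImmersion φ) => inferInstanceAs (IsImmersion φ))
      (repWith_openSubι (X := Y) ⟨⋃ x ∈ t, Set.range (Points.ofPt (a x)),
        isOpen_biUnion fun x _ => (isOpenMap_ofPt (ha x)).isOpen_range⟩))
  rw [he.1.isInducing.isCompact_iff, Set.image_univ, range_openSubι]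
  exact t.finite_toSet.isCompact_biUnion fun x _ => by
    haveI := hW x
    exact isCompact_range (Points.continuous_ofPt _)

variable [QuasiSeparatedSpace S]

/-- A quasi-compact quasi-separated space over a quasi-separated one is a limit of spaces of finite presentation. -/
theorem exists_limit_fp {X : Sp S} (hX : IsAlgSpace X) (hXqc : IsQuasiCompactSp X) (hXqs : IsQuasiSeparatedSp X)
    {Y : AlgSp.Space S} (hYqs : IsQuasiSeparatedSp Y.obj) (f : X ⟶ Y.obj) :
    ∃ (I : Type u) (_ : Preorder I) (_ : IsDirected I (fun a b => a ≤ b)) (_ : Nonempty I)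
      (D : Iᵒᵖ ⥤ Sp S) (t : D ⟶ (Functor.const Iᵒᵖ).obj Y.obj) (c : Cone D) (_ : IsLimit c) (e : c.pt ≅ X),
      (∀ i, IsAlgSpace (D.obj i)) ∧ (∀ (i j : Iᵒᵖ) (φ : i ⟶ j), IsAffineMor (D.map φ)) ∧
      (∀ i, IsQuasiCompactSp (D.obj i) ∧ IsQuasiSeparatedSp (D.obj i)) ∧
      (∀ i, IsFinitePresentationMor (t.app i)) ∧ (∀ i, RepWith @IsAffineHom (c.π.app i)) ∧
      (∀ i, e.inv ≫ c.π.app i ≫ t.app i = f) := by
  haveI := compactSpace_of_qcSp hXqc
  obtain ⟨O, hOqc, hsub⟩ := exists_qc_open_superset Y.property (isCompact_range (Points.continuous_map f))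
  have hj := repWith_openSubι O
  haveI := mono_of_repWith_openImmersion hj
  have hOqs : IsQuasiSeparatedSp (openSub O) := Qs.isQuasiSeparatedSp_of_mono hYqs (openSubι O)
  have hO := isAlgSpace_openSub O Y.property
  obtain ⟨f₁, hf₁⟩ := (exists_factor_iff hj f).2 (by rw [range_openSubι]; exact hsub)
  obtain ⟨X₀, a, r, hX₀, ha, hr, har⟩ := approximable (B := ⟨openSub O, hO⟩) hOqc hOqs hX hXqc hXqs f₁
  have hX₀qc : IsQuasiCompactSp X₀ := hr.2.1 hO hOqc (𝟙 _) (𝟙 _) r IsPullback.of_id_fst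
  have hX₀qs : IsQuasiSeparatedSp X₀ := Groth.L09.SpLimit.qsSp_of_qsMor hOqs hr.2.2
  obtain ⟨I, i1, i2, i3, D, t, c, hc, e, hD, hDa, ht, hfac⟩ :=
    RelSpec.exists_limit_affine (Y := (⟨X₀, hX₀⟩ : AlgSp.Space S)) ha hX₀qc hX₀qs
  refine ⟨I, i1, i2, i3, D, t ≫ (Functor.const Iᵒᵖ).map (r ≫ openSubι O), c, hc, e, hD, hDa,
    fun i => ⟨Groth.L09.SpLimit.qcSp_of_affine hX₀ hX₀qc (isAffineMor_iff.1 (ht i).1),
      Groth.L09.SpLimit.qsSp_of_affine hX₀qs (isAffineMor_iff.1 (ht i).1)⟩, fun i => ?_, fun i => ?_, fun i => ?_⟩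
  · exact QAffineFp.fp_comp (hD i) hX₀ Y.property (ht i).2
      (QAffineFp.fp_comp hX₀ hO Y.property hr (QAffineFp.fp_open hO Y.property hOqc hYqs hj))
  · refine affine_of_comp (g := t.app i) ?_ (isAffineMor_iff.1 (ht i).1)
    rw [show c.π.app i ≫ t.app i = e.hom ≫ a by rw [← cancel_epi e.inv, hfac, Iso.inv_hom_id_assoc]]
    exact repWith_comp (repWith_of_isIso _) ha
  · show e.inv ≫ c.π.app i ≫ t.app i ≫ r ≫ openSubι O = f
    rw [reassoc_of% (hfac i), reassoc_of% har, hf₁]

end Groth.L23.Approx
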