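import Groth.Agent.L23.Approx.Glue

/-!
# Absolute approximation of quasi-compact quasi-separated spaces
-/

universe u

open CategoryTheory CategoryTheory.Limits AlgebraicGeometry Opposite AlgSp TopologicalSpace

set_option autoImplicit false
set_option linter.style.haveILetI false
set_option linter.unusedSectionVars false
set_option backward.isDefEq.respectTransparency false
set_option backward.isDefEq.respectTransparency.types false

noncomputable section

namespace Groth.L23.Approx

variable {S : Scheme.{u}}

/-- An elementary distinguished square does not change along an isomorphism of the second corner. -/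
theorem isElemDistSq_iso_right {U V V' W : Sp S} (hV : IsAlgSpace V) (hV' : IsAlgSpace V') {j : U ⟶ W} {f : V ⟶ W}
    (θ : V' ≅ V) (h : IsElemDistSq j f) : IsElemDistSq j (θ.hom ≫ f) := by
  obtain ⟨hj, hf, T, P, i, p₁, p₂, hi, sq, hiso⟩ := h
  refine ⟨hj, StLocal.isEtaleMor_comp (StLocal.isEtaleMor_of_repWith hV' hV (repWith_of_isIso _)) hf, T, P, i, p₁,
    p₂ ≫ θ.inv, hi, ?_, hiso⟩
  exact sq.of_iso (Iso.refl _) (Iso.refl _) θ.symm (Iso.refl _) (by simp) (by simp) (by simp) (by simp)

variable [QuasiSeparatedSpace S]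

/-- A morphism of quasi-compact quasi-separated spaces factors as an affine morphism followed by one of finite
presentation. -/
theorem approximable {B : AlgSp.Space S} (hBqc : IsQuasiCompactSp B.obj) (hBqs : IsQuasiSeparatedSp B.obj)
    {X : Sp S} (hX : IsAlgSpace X) (hXqc : IsQuasiCompactSp X) (hXqs : IsQuasiSeparatedSp X) (g : X ⟶ B.obj) :
    Approximable B.obj g := by
  let Xs : AlgSp.Space S := ⟨X, hX⟩
  let W : AlgSp.Space S := ⟨openSub (⊥ : Opens (Points X)), isAlgSpace_openSub _ hX⟩
  let jW : W ⟶ Xs := ObjectProperty.homMk (openSubι (⊥ : Opens (Points X)))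
  have hjW : RepWith @IsOpenImmersion jW.hom := repWith_openSubι _
  have hr : Set.range (Points.map jW.hom) = ∅ := range_openSubι _
  have hWe : IsEmpty (Points W.obj) := Groth.L09.Filtration.isClosed_empty_range jW.hom hr
  have hWqc : IsQuasiCompactSp W.obj := qcSp_of_compactSpace W.property inferInstance
  have h : Approximable B.obj ((𝟙 Xs : Xs ⟶ Xs).hom ≫ g) := by
    refine Groth.L09.Filtration.openSubspace_induction Xs hXqc hXqs (fun U j => Approximable B.obj (j.hom ≫ g))
      W jW hjW hWqc ?_ ?_
    · haveI := mono_of_repWith_openImmersion hjW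
      refine ⟨W.obj, 𝟙 _, jW.hom ≫ g, W.property, repWith_of_isIso _, ⟨?_,
        qcMor_of_qc_source W.property B.property hWqc hBqs _,
        Groth.L09.SpLimit.qsMor_of_qsSp (Qs.isQuasiSeparatedSp_of_mono hXqs jW.hom) _⟩, Category.id_comp _⟩
      intro U V a b h _ _ _
      haveI : IsEmpty U.left := ⟨fun u => hWe.false (Points.ofPt a u)⟩
      infer_instance
    · rintro W₁ W₂ V j₁ j₂ k m f hj₁ hj₂ hk - hc₁ hc₂ ⟨T, hT, ⟨θ⟩⟩ hsq hP
      haveI := hT
      haveI := mono_of_repWith_openImmersion hj₂
      refine approximable_step hBqc hBqs W₁.property W₂.property hc₁ (Qs.isQuasiSeparatedSp_of_mono hXqs j₂.hom)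
        (isElemDistSq_iso_right V.property (IsAlgSpace.yon_obj T) θ hsq) ?_
      rw [← Category.assoc, show k.hom ≫ j₂.hom = j₁.hom from congrArg (fun t : W₁ ⟶ Xs => t.hom) hk]
      exact hP
  rwa [show (𝟙 Xs : Xs ⟶ Xs).hom ≫ g = g from Category.id_comp g] at h

end Groth.L23.Approx
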