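import Groth.Agent.L09.LfpLift.Systems
import Groth.Agent.L23.Approx.LimitFp
import Mathlib.CategoryTheory.Filtered.Final
import Mathlib.Data.Finset.Lattice.Basic

/-!
# A morphism as a limit of morphisms between approximations
-/

universe u

open CategoryTheory CategoryTheory.Limits AlgebraicGeometry Opposite AlgSp

set_option autoImplicit false
set_option linter.style.haveILetI false
set_option linter.unusedSectionVars false
set_option backward.isDefEq.respectTransparency false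
set_option backward.isDefEq.respectTransparency.types false

noncomputable section

namespace Groth.L23.Approx

variable {S : Scheme.{u}} {IA IB : Type u} [Preorder IA] [Preorder IB] (DA : IAᵒᵖ ⥤ Sp S) (DB : IBᵒᵖ ⥤ Sp S)
  (cA : Cone DA) (cB : Cone DB) (g : cA.pt ⟶ cB.pt)

/-- A morphism of stages compatible with the morphism of limits. -/
structure PairHom : Type (u + 1) where
  a : IA
  b : IB
  hom : DA.obj (op a) ⟶ DB.obj (op b)
  comm : cA.π.app (op a) ≫ hom = g ≫ cB.π.app (op b)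

variable {DA DB cA cB g}

/-- The later morphism of stages induces the earlier one. -/
def PairHom.LE (p q : PairHom DA DB cA cB g) : Prop :=
  ∃ (ha : p.a ≤ q.a) (hb : p.b ≤ q.b), q.hom ≫ DB.map (homOfLE hb).op = DA.map (homOfLE ha).op ≫ p.hom

theorem PairHom.LE.trans' {p q r : PairHom DA DB cA cB g} (h : PairHom.LE p q) (h' : PairHom.LE q r) :
    PairHom.LE p r := by
  obtain ⟨ha, hb, e⟩ := h
  obtain ⟨ha', hb', e'⟩ := h'
  refine ⟨ha.trans ha', hb.trans hb', ?_⟩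
  rw [show (homOfLE (hb.trans hb')).op = (homOfLE hb').op ≫ (homOfLE hb).op from rfl,
    show (homOfLE (ha.trans ha')).op = (homOfLE ha').op ≫ (homOfLE ha).op from rfl,
    Functor.map_comp, Functor.map_comp, ← Category.assoc, e', Category.assoc, e, Category.assoc]

variable [IsDirectedOrder IA] [Nonempty IA] [IsDirectedOrder IB] [Nonempty IB] [QuasiSeparatedSpace S]

/-- Hypotheses on the systems. -/
structure PairSetup (DA : IAᵒᵖ ⥤ Sp S) (DB : IBᵒᵖ ⥤ Sp S) (cA : Cone DA) : Prop where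
  space : ∀ a, IsAlgSpace (DA.obj a)
  aff : ∀ (a a' : IAᵒᵖ) (φ : a ⟶ a'), IsAffineMor (DA.map φ)
  qc : ∀ a, IsQuasiCompactSp (DA.obj a)
  qs : ∀ a, IsQuasiSeparatedSp (DA.obj a)
  lim : Nonempty (IsLimit cA)
  lfp : ∀ b, ∃ (B : Sp S) (q : DB.obj b ⟶ B), (∀ T : Sp S, Subsingleton (T ⟶ B)) ∧
    Groth.L09.LfpLift.Lifts q ∧ Groth.L09.LfpLift.Seps q ∧ ∀ T : Sp S, Nonempty (T ⟶ B)

variable (H : PairSetup DA DB cA)

include H

theorem PairHom.exists_bound (a₁ : IA) (b₁ : IB) :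
    ∃ p : PairHom DA DB cA cB g, a₁ ≤ p.a ∧ b₁ ≤ p.b := by
  obtain ⟨B, q, hB, hl, hs, hne⟩ := H.lfp (op b₁)
  obtain ⟨hc⟩ := H.lim
  obtain ⟨y⟩ := hne (DA.obj (op a₁))
  haveI := hB cA.pt
  obtain ⟨j, t, xj, hxj, -⟩ := Groth.L09.LfpLift.lifts_system H.aff hc (op a₁) (H.space _) (H.qc _) (H.qs _) hl hs
    (g ≫ cB.π.app (op b₁)) y (Subsingleton.elim _ _)
  exact ⟨⟨j.unop, b₁, xj, hxj⟩, leOfHom t.unop, le_rfl⟩

/-- Two morphisms to a stage equal on the limit are equal at a later stage. -/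
theorem PairHom.exists_eq {a : IA} {b : IB} (x x' : DA.obj (op a) ⟶ DB.obj (op b))
    (h : cA.π.app (op a) ≫ x = cA.π.app (op a) ≫ x') :
    ∃ (a' : IA) (ha : a ≤ a'), DA.map (homOfLE ha).op ≫ x = DA.map (homOfLE ha).op ≫ x' := by
  obtain ⟨B, q, hB, -, hs, -⟩ := H.lfp (op b)
  obtain ⟨hc⟩ := H.lim
  haveI := hB (DA.obj (op a))
  obtain ⟨j, t, ht⟩ := Groth.L09.LfpLift.seps_system H.aff hc (op a) (H.space _) (H.qc _) hs x x'
    (Subsingleton.elim _ _) h
  exact ⟨j.unop, leOfHom t.unop, ht⟩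

theorem PairHom.exists_ub (p p' : PairHom DA DB cA cB g) : ∃ r, PairHom.LE p r ∧ PairHom.LE p' r := by
  obtain ⟨a₁, hpa, hpa'⟩ := exists_ge_ge p.a p'.a
  obtain ⟨b₁, hpb, hpb'⟩ := exists_ge_ge p.b p'.b
  obtain ⟨r, hra, hrb⟩ := PairHom.exists_bound H (cB := cB) (g := g) a₁ b₁
  have key : ∀ (s : PairHom DA DB cA cB g) (ha : s.a ≤ r.a) (hb : s.b ≤ r.b),
      ∃ (a' : IA) (h : r.a ≤ a'), DA.map (homOfLE h).op ≫ r.hom ≫ DB.map (homOfLE hb).op =
        DA.map (homOfLE h).op ≫ DA.map (homOfLE ha).op ≫ s.hom := by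
    intro s ha hb
    exact PairHom.exists_eq H _ _ (by rw [reassoc_of% r.comm, cB.w, cA.w_assoc, s.comm])
  obtain ⟨a₂, h₂, e₂⟩ := key p (hpa.trans hra) (hpb.trans hrb)
  obtain ⟨a₃, h₃, e₃⟩ := key p' (hpa'.trans hra) (hpb'.trans hrb)
  obtain ⟨a₄, h₄, h₄'⟩ := exists_ge_ge a₂ a₃
  refine ⟨⟨a₄, r.b, DA.map (homOfLE (h₂.trans h₄)).op ≫ r.hom, by rw [cA.w_assoc, r.comm]⟩,
    ⟨(hpa.trans hra).trans (h₂.trans h₄), hpb.trans hrb, ?_⟩, ⟨(hpa'.trans hra).trans (h₂.trans h₄), hpb'.trans hrb, ?_⟩⟩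
  · show (DA.map (homOfLE (h₂.trans h₄)).op ≫ r.hom) ≫ DB.map (homOfLE (hpb.trans hrb)).op =
      DA.map (homOfLE ((hpa.trans hra).trans (h₂.trans h₄))).op ≫ p.hom
    rw [show (homOfLE (h₂.trans h₄)).op = (homOfLE h₄).op ≫ (homOfLE h₂).op from rfl, Functor.map_comp]
    simp only [Category.assoc]
    rw [e₂]
    simp only [← Functor.map_comp_assoc]
    rfl
  · show (DA.map (homOfLE (h₂.trans h₄)).op ≫ r.hom) ≫ DB.map (homOfLE (hpb'.trans hrb)).op =
      DA.map (homOfLE ((hpa'.trans hra).trans (h₂.trans h₄))).op ≫ p'.hom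
    rw [show (homOfLE (h₂.trans h₄)).op = (homOfLE h₄').op ≫ (homOfLE h₃).op from rfl, Functor.map_comp]
    simp only [Category.assoc]
    rw [e₃]
    simp only [← Functor.map_comp_assoc]
    rfl

open Classical in
/-- A family of compatible morphisms of stages indexed by finite sets. -/
theorem exists_pairs :
    ∃ d : Finset (IA ⊕ IB) → PairHom DA DB cA cB g, (∀ E E', E ⊆ E' → PairHom.LE (d E) (d E')) ∧
      (∀ a, a ≤ (d {Sum.inl a}).a) ∧ ∀ b, b ≤ (d {Sum.inr b}).b := by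
  let Good : Finset (IA ⊕ IB) → PairHom DA DB cA cB g → Prop := fun E r =>
    (∀ a, Sum.inl a ∈ E → a ≤ r.a) ∧ ∀ b, Sum.inr b ∈ E → b ≤ r.b
  have hgood : ∀ E, ∃ r, Good E r := by
    intro E
    obtain ⟨a₁, ha₁⟩ := (E.preimage Sum.inl Sum.inl_injective.injOn).exists_le
    obtain ⟨b₁, hb₁⟩ := (E.preimage Sum.inr Sum.inr_injective.injOn).exists_le
    obtain ⟨r, hra, hrb⟩ := PairHom.exists_bound H (cB := cB) (g := g) a₁ b₁
    exact ⟨r, fun a ha => (ha₁ a (Finset.mem_preimage.2 ha)).trans hra,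
      fun b hb => (hb₁ b (Finset.mem_preimage.2 hb)).trans hrb⟩
  have hstep : ∀ (E : Finset (IA ⊕ IB)) (F : ∀ T ⊂ E, PairHom DA DB cA cB g),
      ∃ r, Good E r ∧ ∀ T (hT : T ⊂ E), PairHom.LE (F T hT) r := by
    intro E F
    have key : ∀ s : Finset {T // T ⊂ E}, ∃ r, Good E r ∧ ∀ T ∈ s, PairHom.LE (F T.1 T.2) r := by
      intro s
      induction s using Finset.induction_on with
      | empty => exact (hgood E).imp fun r hr => ⟨hr, by simp⟩
      | insert T s _ ih =>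
        obtain ⟨r, hr, hrs⟩ := ih
        obtain ⟨r', h₁, h₂⟩ := PairHom.exists_ub H r (F T.1 T.2)
        refine ⟨r', ⟨fun a ha => (hr.1 a ha).trans h₁.1, fun b hb => (hr.2 b hb).trans h₁.2.1⟩, fun T' hT' => ?_⟩
        rcases Finset.mem_insert.1 hT' with rfl | hT'
        · exact h₂
        · exact (hrs T' hT').trans' h₁
    haveI : Finite {T // T ⊂ E} :=
      Finite.of_injective (fun T => (⟨T.1, Finset.mem_powerset.2 T.2.1⟩ : {x // x ∈ E.powerset}))
        fun T T' h => Subtype.ext (congrArg Subtype.val h :)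
    letI := Fintype.ofFinite {T // T ⊂ E}
    obtain ⟨r, hr, h⟩ := key Finset.univ
    exact ⟨r, hr, fun T hT => h ⟨T, hT⟩ (Finset.mem_univ _)⟩
  let d : Finset (IA ⊕ IB) → PairHom DA DB cA cB g := Finset.strongInduction fun E F => (hstep E F).choose
  have hd : ∀ E, Good E (d E) ∧ ∀ T, T ⊂ E → PairHom.LE (d T) (d E) := by
    intro E
    have e : d E = (hstep E fun T _ => d T).choose := Finset.strongInduction_eq _ E
    rw [e]
    exact ⟨(hstep E fun T _ => d T).choose_spec.1, (hstep E fun T _ => d T).choose_spec.2⟩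
  refine ⟨d, fun E E' h => ?_, fun a => (hd _).1.1 a (Finset.mem_singleton_self _),
    fun b => (hd _).1.2 b (Finset.mem_singleton_self _)⟩
  rcases h.eq_or_ssubset with rfl | h
  · exact ⟨le_rfl, le_rfl, by simp⟩
  · exact (hd E').2 E h

/-- The morphism of limits is a limit of morphisms of stages. -/
theorem exists_pairSystem (hcA : IsLimit cA) (hcB : IsLimit cB) :
    ∃ (I : Type u) (_ : Preorder I) (_ : IsDirected I (fun a b => a ≤ b)) (_ : Nonempty I)
      (FA : Iᵒᵖ ⥤ IAᵒᵖ) (FB : Iᵒᵖ ⥤ IBᵒᵖ) (φ : FA ⋙ DA ⟶ FB ⋙ DB) (_ : IsLimit (cA.whisker FA))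
      (_ : IsLimit (cB.whisker FB)), ∀ i, cA.π.app (FA.obj i) ≫ φ.app i = g ≫ cB.π.app (FB.obj i) := by
  classical
  obtain ⟨d, hd, hda, hdb⟩ := exists_pairs H (cB := cB) (g := g)
  have hA : Monotone fun E => (d E).a := fun E E' h => (hd E E' h).1
  have hB : Monotone fun E => (d E).b := fun E E' h => (hd E E' h).2.1
  haveI : IsDirectedOrder (Finset (IA ⊕ IB)) := ⟨fun E E' => ⟨E ∪ E', Finset.subset_union_left, Finset.subset_union_right⟩⟩
  haveI : hA.functor.Final := hA.final_functor_iff.2 fun a => ⟨_, hda a⟩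
  haveI : hB.functor.Final := hB.final_functor_iff.2 fun b => ⟨_, hdb b⟩
  refine ⟨Finset (IA ⊕ IB), inferInstance, inferInstance, inferInstance, hA.functor.op, hB.functor.op,
    { app := fun i => (d i.unop).hom
      naturality := fun i j m => ?_ }, (Functor.Initial.isLimitWhiskerEquiv hA.functor.op cA).symm hcA,
    (Functor.Initial.isLimitWhiskerEquiv hB.functor.op cB).symm hcB, fun i => (d i.unop).comm⟩
  obtain ⟨ha, hb, e⟩ := hd _ _ (leOfHom m.unop)
  exact e.symm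

end Groth.L23.Approx
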