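import Groth.Agent.L23.ProperLimit
import Groth.Agent.L19.Limit.ProperClosed
import Groth.Agent.L23.Approx.ClosedDescend
import Mathlib.CategoryTheory.Limits.Connected

/-!
# Properness of the members of a decreasing system of closed subspaces
-/

universe u

open CategoryTheory CategoryTheory.Limits AlgebraicGeometry AlgSp

set_option autoImplicit false
set_option linter.style.haveILetI false
set_option linter.unusedSectionVars false
set_option backward.isDefEq.respectTransparency false
set_option backward.isDefEq.respectTransparency.types false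

noncomputable section

namespace Groth.L23.Approx

section Scheme

open Groth.L19.Limit

variable {J : Type u} [SmallCategory J] [IsCofiltered J]

theorem exists_isProper_stage_aux {D : J ⥤ Scheme.{u}} {c : Cone D} (hc : IsLimit c)
    [∀ {a b : J} (f : a ⟶ b), IsAffineHom (D.map f)] [∀ {a b : J} (f : a ⟶ b), IsIso (D.map f)] (i : J)
    [IsIso (c.π.app i)] {Q V : Scheme.{u}} [CompactSpace (D.obj i)] [QuasiSeparatedSpace (D.obj i)] [CompactSpace Q]
    [QuasiSeparatedSpace Q] (h : Q ⟶ D.obj i) [LocallyOfFiniteType h] (C : J → Set Q) (hC : ∀ j, IsClosed (C j))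
    (hmono : ∀ {a b : J} (_ : a ⟶ b), C a ⊆ C b) (ι : V ⟶ Q) [IsClosedImmersion ι] [IsProper (ι ≫ h)]
    (hι : ∀ x, (∀ j, x ∈ C j) → x ∈ Set.range ι) :
    ∃ j₀ : J, ∀ (k : J) (_ : k ⟶ j₀) {W : Scheme.{u}} (κ : W ⟶ Q) [IsClosedImmersion κ],
      Set.range κ ⊆ C k → IsProper (κ ≫ h) := by
  have hY : IsPullback (c.π.app i) (𝟙 c.pt) (𝟙 (D.obj i)) (c.π.app i) := IsPullback.of_id_snd
  have hX : IsPullback (𝟙 Q) (h ≫ inv (c.π.app i)) h (c.π.app i) := IsPullback.of_horiz_isIso ⟨by simp⟩
  haveI : IsProper (ι ≫ h ≫ inv (c.π.app i)) := by rw [← Category.assoc]; infer_instance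
  let snd' : ∀ j : Over i, (bcDiagram D (h ≫ 𝟙 (D.obj i))).obj j ⟶ Q := fun j =>
    pullback.snd (D.map j.hom) (h ≫ 𝟙 (D.obj i))
  obtain ⟨j₀, hj₀⟩ := exists_isProper_closed hc hY hX (fun j => ⇑(snd' j) ⁻¹' C j.left)
    (fun j => (hC _).preimage (Scheme.Hom.continuous _))
    (fun {j k} φ x hx => by
      show snd' j ((bcDiagram D (h ≫ 𝟙 (D.obj i))).map φ x) ∈ C j.left
      rw [← Scheme.Hom.comp_apply, show (bcDiagram D (h ≫ 𝟙 (D.obj i))).map φ ≫ snd' j = snd' k by
        simp [snd', bcDiagram]]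
      exact hmono φ.left hx)
    ι (fun x hx => hι x fun j => by
      have hk := hx (Over.mk (IsCofiltered.minToLeft i j))
      refine hmono (IsCofiltered.minToRight i j) ?_
      have e : toStage (hX.paste_vert hY) (Over.mk (IsCofiltered.minToLeft i j)) ≫ snd' _ = 𝟙 Q := toStage_snd _ _
      have hxe : snd' _ (toStage (hX.paste_vert hY) (Over.mk (IsCofiltered.minToLeft i j)) x) = x := by
        rw [← Scheme.Hom.comp_apply, e]; rfl
      rw [← hxe]
      exact hk)
  refine ⟨j₀.left, fun k a W κ _ hκ => ?_⟩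
  let k' : Over i := Over.mk (a ≫ j₀.hom)
  haveI : IsIso (snd' k') := inferInstanceAs (IsIso (pullback.snd (D.map k'.hom) (h ≫ 𝟙 (D.obj i))))
  let κ' : W ⟶ (bcDiagram D (h ≫ 𝟙 (D.obj i))).obj k' := κ ≫ inv (snd' k')
  have hp := hj₀ k' (Over.homMk a) κ' (by
    rintro _ ⟨w, rfl⟩
    show snd' k' (κ' w) ∈ C k
    rw [← Scheme.Hom.comp_apply, Category.assoc, IsIso.inv_hom_id, Category.comp_id]
    exact hκ ⟨w, rfl⟩)
  have e : κ ≫ h = (κ' ≫ stageHom h (𝟙 (D.obj i)) k') ≫ pullback.snd (D.map k'.hom) (𝟙 (D.obj i)) := by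
    rw [Category.assoc, stageHom_snd]
    simp [κ', snd']
  rw [e]
  infer_instance

/-- A closed subset proper over the base has a proper neighbour in a decreasing system with that intersection. -/
theorem exists_isProper_stage {T Q V : Scheme.{u}} [CompactSpace T] [QuasiSeparatedSpace T] [CompactSpace Q]
    [QuasiSeparatedSpace Q] (h : Q ⟶ T) [LocallyOfFiniteType h] (C : J → Set Q) (hC : ∀ j, IsClosed (C j))
    (hmono : ∀ {a b : J} (_ : a ⟶ b), C a ⊆ C b) (ι : V ⟶ Q) [IsClosedImmersion ι] [IsProper (ι ≫ h)]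
    (hι : ∀ x, (∀ j, x ∈ C j) → x ∈ Set.range ι) :
    ∃ j₀ : J, ∀ (k : J) (_ : k ⟶ j₀) {W : Scheme.{u}} (κ : W ⟶ Q) [IsClosedImmersion κ],
      Set.range κ ⊆ C k → IsProper (κ ≫ h) := by
  haveI : IsConnected J := IsCofiltered.isConnected J
  obtain ⟨i⟩ := IsCofiltered.nonempty (C := J)
  let D : J ⥤ Scheme.{u} := (Functor.const J).obj T
  haveI : ∀ {a b : J} (f : a ⟶ b), IsAffineHom (D.map f) := fun f => inferInstanceAs (IsAffineHom (𝟙 T))
  haveI : ∀ {a b : J} (f : a ⟶ b), IsIso (D.map f) := fun f => inferInstanceAs (IsIso (𝟙 T))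
  haveI : IsIso ((constCone J T).π.app i) := inferInstanceAs (IsIso (𝟙 T))
  haveI : CompactSpace (D.obj i) := inferInstanceAs (CompactSpace T)
  haveI : QuasiSeparatedSpace (D.obj i) := inferInstanceAs (QuasiSeparatedSpace T)
  exact exists_isProper_stage_aux (D := D) (isLimitConstCone J T) i h C hC hmono ι hι

end Scheme

variable {S : Scheme.{u}} [QuasiSeparatedSpace S]

/-- Properness of a closed subspace is read on a finite surjective scheme cover over an affine atlas. -/
theorem isProper_closed_iff {X' Y Z : Sp S} (hX' : IsAlgSpace X') (hY : IsAlgSpace Y) (hZ : IsAlgSpace Z)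
    {w : X' ⟶ Y} (hws : IsSeparatedMor w) (hwf : LocP @LocallyOfFiniteType w) {z : Z ⟶ X'}
    (hz : RepWith @IsClosedImmersion z) {T Q : Over S} {p : (yon S).obj T ⟶ Y} (hp : RepWith @Etale p)
    (hps : RepWith @Surjective p) {γ : (yon S).obj Q ⟶ pullback w p} (hγ : RepWith @IsFinite γ)
    (hγs : RepWith @Surjective γ) {h : Q ⟶ T} (hh : γ ≫ pullback.snd w p = (yon S).map h) {W : Over S}
    {fst : (yon S).obj W ⟶ Z} {κ : W ⟶ Q} (sq : IsPullback fst ((yon S).map κ) z (γ ≫ pullback.fst w p)) :
    IsProperMor (z ≫ w) ↔ IsProper (κ.left ≫ h.left) := by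
  have sqT := IsPullback.of_hasPullback (z ≫ w) p
  let n : pullback (z ≫ w) p ⟶ pullback w p :=
    pullback.lift (pullback.fst _ _ ≫ z) (pullback.snd _ _) (by rw [Category.assoc]; exact sqT.w)
  have sqn : IsPullback (pullback.fst (z ≫ w) p) n z (pullback.fst w p) := by
    refine (IsPullback.of_right ?_ (pullback.lift_fst _ _ _) (IsPullback.of_hasPullback w p).flip).flip
    rw [show n ≫ pullback.snd w p = pullback.snd (z ≫ w) p from pullback.lift_snd _ _ _]
    exact sqT.flip
  let m : (yon S).obj W ⟶ pullback (z ≫ w) p := sqn.lift fst ((yon S).map κ ≫ γ) (by rw [Category.assoc]; exact sq.w)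
  have sqm : IsPullback ((yon S).map κ) m γ n := by
    refine (IsPullback.of_right ?_ (sqn.lift_snd _ _ _) sqn).flip
    rw [sqn.lift_fst]
    exact sq
  have hm : RepWith @IsFinite m := repWith_of_isPullback sqm hγ
  have hms : Function.Surjective (Points.map m) := surjective_map_of_repWith (repWith_of_isPullback sqm hγs)
  have hmp : IsProperMor m :=
    isProperMor_of_repWith (repWith_mono (fun φ (_ : IsFinite φ) => inferInstanceAs (IsProper φ)) hm)
  have hmh : m ≫ pullback.snd (z ≫ w) p = (yon S).map (κ ≫ h) := by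
    rw [show pullback.snd (z ≫ w) p = n ≫ pullback.snd w p from (pullback.lift_snd _ _ _).symm,
      ← Category.assoc, ← sqm.w, Category.assoc, hh, Functor.map_comp]
  have hT := IsAlgSpace.yon_obj T
  have hW := IsAlgSpace.yon_obj W
  have hP := isAlgSpace_of_isPullback hY.diag hZ hT sqT
  constructor
  · intro hzw
    have hn₁ : IsSeparatedMor ((yon S).map (κ ≫ h)) := by
      rw [← hmh]; exact separated_comp hmp.1 (separated_of_isPullback sqT hzw.1)
    have hn₂ : IsUnivClosedMor ((yon S).map (κ ≫ h)) := by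
      rw [← hmh]; exact univClosed_comp hP hT hmp.2.2 (univSp_of_isPullback sqT hzw.2.2)
    have hn₃ : LocP @LocallyOfFiniteType ((yon S).map (κ ≫ h)) := by
      rw [← hmh]
      exact locP_comp etLocal_lft hW hP hT
        (locP_of_repWith etLocal_lft (ProperLimit.repWith_finite_isFiniteType hm))
        (locP_of_isPullback etLocal_lft hZ hY hT sqT hzw.2.1.1)
    have hn₄ : IsQuasiCompactMor ((yon S).map (κ ≫ h)) := by
      rw [← hmh]; exact qcMor_comp hP hT hmp.2.1.2 (qcMor_of_isPullback sqT hzw.2.1.2)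
    have hr : Representable ((yon S).map (κ ≫ h)) := hT.representable_from_yon _
    haveI : IsSeparated (κ ≫ h).left := (repWith_yon_map_iff _ _).1 ((isSeparatedMor_iff hr).1 hn₁)
    haveI : UniversallyClosed (κ ≫ h).left :=
      (repWith_yon_map_iff _ _).1 ((repWith_universallyClosed_iff hr).2 hn₂)
    haveI : LocallyOfFiniteType (κ ≫ h).left :=
      hn₃ (𝟙 _) (𝟙 _) (κ ≫ h) (repWith_id _ W) (repWith_id _ T) (by simp)
    rw [← Over.comp_left]
    exact { }
  · intro hp'
    have hc : IsProperMor ((yon S).map (κ ≫ h)) := isProperMor_of_repWith ((repWith_yon_map_iff _ _).2 hp')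
    rw [← hmh] at hc
    have hs : IsSeparatedMor (z ≫ w) := separated_comp ((isSeparatedMor_iff hz.1).2
      (repWith_mono (fun φ (_ : IsClosedImmersion φ) => inferInstanceAs (IsSeparated φ)) hz)) hws
    exact isProperMor_of_cover hZ hY hp hps sqT ⟨separated_of_isPullback sqT hs,
      ⟨locP_of_isPullback etLocal_lft hZ hY hT sqT (locP_comp etLocal_lft hZ hX' hY (lft_closed hz) hwf),
        qcMor_of_surjective_comp hP hT hc.2.1.2 hms⟩, univClosed_of_surjective_comp hc.2.2 hms⟩

variable {J : Type u} [SmallCategory J] [IsCofiltered J]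

/-- A member of a decreasing system of closed subspaces is proper if their intersection is. -/
theorem exists_proper_stage {Y : AlgSp.Space S} (hYqc : IsQuasiCompactSp Y.obj) (hYqs : IsQuasiSeparatedSp Y.obj)
    {X' : Sp S} (hX' : IsAlgSpace X') (hX'qc : IsQuasiCompactSp X') (hX'qs : IsQuasiSeparatedSp X') {w : X' ⟶ Y.obj}
    (hws : IsSeparatedMor w) (hwf : LocP @LocallyOfFiniteType w) {Z : J ⥤ Sp S} {c : Cone Z} (hc : IsLimit c)
    (t : Z ⟶ (Functor.const J).obj X') (hZ : ∀ j, IsAlgSpace (Z.obj j))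
    (ht : ∀ j, RepWith @IsClosedImmersion (t.app j)) {g : c.pt ⟶ X'} (hg : RepWith @IsClosedImmersion g)
    (hgt : ∀ j, c.π.app j ≫ t.app j = g) (hgw : IsProperMor (g ≫ w)) :
    ∃ j₀ : J, ∀ (k : J) (_ : k ⟶ j₀), IsProperMor (t.app k ≫ w) := by
  obtain ⟨T, p, hT, hp, hps⟩ := Qs.exists_affine_atlas Y.property hYqc
  haveI := hT
  have sq := IsPullback.of_hasPullback w p
  have hT' := IsAlgSpace.yon_obj T
  have hP := isAlgSpace_of_isPullback Y.property.diag hX' hT' sq
  have hPqc : IsQuasiCompactSp (pullback w p) :=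
    qcMor_of_qc_source hT' Y.property isQuasiCompactSp_of_compactSpace hYqs p hX' hX'qc w _ _ sq.flip
  have hTq := Groth.L09.Filtration.qcqs_of_affine (IsAlgSpace.yon_obj T) (Iso.refl _)
  have hPqs : IsQuasiSeparatedSp (pullback w p) := isQuasiSeparatedSp_of_isPullback sq hX'qs hYqs hTq.2
  obtain ⟨U, v, hU, hv, hvs⟩ := Qs.exists_affine_atlas hP hPqc
  obtain ⟨Q, γ, hγ, hγs', -⟩ := IntCover.exists_scheme_finite ⟨_, hP⟩ hPqc hPqs v hv hvs
  have hγf : RepWith @IsFinite γ := isFiniteMor_iff.1 hγ
  have hγs : RepWith @Surjective γ := repWith_surjective_of_map hγf.1 hγs'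
  obtain ⟨h, hh⟩ := (yon S).map_surjective (γ ≫ pullback.snd w p)
  have hQqs : IsQuasiSeparatedSp ((yon S).obj Q) := Groth.L09.SpLimit.qsSp_of_affine hPqs
    (repWith_mono (fun φ (_ : IsFinite φ) => inferInstanceAs (IsAffineHom φ)) hγf)
  haveI : CompactSpace Q.left := compactSpace_of_isQuasiCompactSp (Groth.L09.SpLimit.qcSp_of_affine hP hPqc
    (repWith_mono (fun φ (_ : IsFinite φ) => inferInstanceAs (IsAffineHom φ)) hγf))
  haveI : QuasiSeparatedSpace Q.left :=
    DimZero.quasiSeparatedSpace_of_iso hQqs (IsAlgSpace.yon_obj Q) Q (𝟙 _)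
  have hl : LocP @LocallyOfFiniteType ((yon S).map h) := by
    rw [hh]
    exact locP_comp etLocal_lft (IsAlgSpace.yon_obj Q) hP hT'
      (locP_of_repWith etLocal_lft (ProperLimit.repWith_finite_isFiniteType hγf))
      (locP_of_isPullback etLocal_lft hX' Y.property hT' sq hwf)
  haveI : LocallyOfFiniteType h.left := hl (𝟙 _) (𝟙 _) h (repWith_id _ Q) (repWith_id _ T) (by simp)
  let φ := γ ≫ pullback.fst w p
  -- the pieces
  let κ := fun j => (ht j).1.snd φ
  haveI hκ : ∀ j, IsClosedImmersion (κ j).left := fun j => repWith_snd (ht j) φ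
  haveI : IsClosedImmersion (hg.1.snd φ).left := repWith_snd hg φ
  haveI : ∀ j, Mono (t.app j) := fun j => mono_closed (ht j)
  have hcpt : IsAlgSpace c.pt := isAlgSpace_of_representable_to hX' hg.1
  haveI : IsProper ((hg.1.snd φ).left ≫ h.left) :=
    (isProper_closed_iff hX' Y.property hcpt hws hwf hg hp hps hγf hγs hh.symm (hg.1.isPullback φ)).1 hgw
  obtain ⟨j₀, hj₀⟩ := exists_isProper_stage h.left (fun j => Set.range (κ j).left)
    (fun j => (κ j).left.isClosedEmbedding.isClosed_range)
    (fun {i j} f => by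
      obtain ⟨l, hl'⟩ := (yon S).map_surjective (((ht j).1.isPullback φ).lift ((ht i).1.fst φ ≫ Z.map f)
        ((yon S).map (κ i)) (by
          rw [Category.assoc, t.naturality f]
          simpa [κ] using ((ht i).1.isPullback φ).w))
      have hl : l ≫ κ j = κ i := (yon S).map_injective (by rw [Functor.map_comp, hl', IsPullback.lift_snd])
      rintro _ ⟨x, rfl⟩
      exact ⟨l.left x, by rw [← Scheme.Hom.comp_apply, ← Over.comp_left, hl]⟩)
    (hg.1.snd φ).left
    (fun x hx => by
      let K := Q.left.residueField x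
      let sx : Over.mk (Q.left.fromSpecResidueField x ≫ Q.hom) ⟶ Q := Over.homMk (Q.left.fromSpecResidueField x)
      haveI : IsReduced (Over.mk (Q.left.fromSpecResidueField x ≫ Q.hom)).left := inferInstanceAs (IsReduced (Spec K))
      have hl : ∀ j, ∃ u : (yon S).obj (Over.mk (Q.left.fromSpecResidueField x ≫ Q.hom)) ⟶ Z.obj j,
          u ≫ t.app j = (yon S).map sx ≫ φ := fun j => by
        obtain ⟨l, hl⟩ := Groth.L19.exists_lift_of_isImmersion (κ j).left sx.left (by
          rw [show Set.range sx.left = {x} from Scheme.range_fromSpecResidueField _]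
          simpa using hx j)
        let l' : Over.mk (Q.left.fromSpecResidueField x ≫ Q.hom) ⟶ (ht j).1.pullback φ := Over.homMk l (by
          rw [← Over.w (κ j), ← Category.assoc, hl]; rfl)
        refine ⟨(yon S).map l' ≫ (ht j).1.fst φ, ?_⟩
        rw [Category.assoc, ((ht j).1.isPullback φ).w, ← Functor.map_comp_assoc]
        congr 2
        exact Over.OverMorphism.ext hl
      choose u hu using hl
      let s : Cone Z :=
        { pt := (yon S).obj (Over.mk (Q.left.fromSpecResidueField x ≫ Q.hom))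
          π :=
            { app := u
              naturality := fun i j f => by
                show 𝟙 _ ≫ u j = u i ≫ Z.map f
                rw [Category.id_comp, ← cancel_mono (t.app j), Category.assoc, t.naturality f, hu j]
                simpa using (hu i).symm } }
      obtain ⟨j⟩ := IsCofiltered.nonempty (C := J)
      obtain ⟨l, hl'⟩ := (yon S).map_surjective ((hg.1.isPullback φ).lift (hc.lift s) ((yon S).map sx) (by
        rw [← hgt j, reassoc_of% (hc.fac s j)]
        exact hu j))
      have hl : l ≫ hg.1.snd φ = sx := (yon S).map_injective (by rw [Functor.map_comp, hl', IsPullback.lift_snd])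
      obtain ⟨q, hq⟩ : x ∈ Set.range sx.left := by
        rw [show Set.range sx.left = {x} from Scheme.range_fromSpecResidueField _]; rfl
      exact ⟨l.left q, by rw [← Scheme.Hom.comp_apply, ← Over.comp_left, hl, hq]⟩)
  refine ⟨j₀, fun k a => (isProper_closed_iff hX' Y.property (hZ k) hws hwf (ht k) hp hps hγf hγs hh.symm
    ((ht k).1.isPullback φ)).2 (hj₀ k a (κ k).left subset_rfl)⟩

end Groth.L23.Approx
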